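import Mathlib
import Cfsg.Agent.Lib.Balance.Basic
import Cfsg.Agent.Lib.OddOrder.FeitThompson

/-!
# The perfect residual of a subgroup

Owner: helper33 (S1173: the perfect core of the centraliser of a strongly closed 2-subgroup).
-/

set_option autoImplicit false
set_option linter.style.haveILetI false

open Subgroup
open scoped commutatorElement

namespace Cfsg.Agent.Lib.CentResidual33

variable {G : Type*} [Group G] {H : Type*} [Group H]

/-- The intersection of the derived series of `C`, viewed in the ambient group. -/
def pres (C : Subgroup G) : Subgroup G := (⨅ n : ℕ, derivedSeries ↥C n).map C.subtype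

theorem pres_le (C : Subgroup G) : pres C ≤ C := map_subtype_le _

/-- A perfect subgroup lies in every term of the derived series above it. -/
theorem le_derivedIn {P C : Subgroup G} (hP : ⁅P, P⁆ = P) (h : P ≤ C) :
    ∀ n, P ≤ Cores.derivedIn C n
  | 0 => h
  | n + 1 => hP.symm.le.trans (commutator_mono (le_derivedIn hP h n) (le_derivedIn hP h n))

theorem pres_le_derivedIn (C : Subgroup G) (n : ℕ) : pres C ≤ Cores.derivedIn C n := by
  rw [Cores.derivedIn_eq_map]
  exact map_mono (iInf_le _ n)

theorem exists_pres_eq [Finite G] (C : Subgroup G) :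
    ∃ n, pres C = Cores.derivedIn C n ∧
      ⁅Cores.derivedIn C n, Cores.derivedIn C n⁆ = Cores.derivedIn C n := by
  obtain ⟨n, hn⟩ := WellFoundedLT.antitone_chain_condition (derivedSeries_antitone ↥C)
  refine ⟨n, le_antisymm (pres_le_derivedIn C n) ?_, ?_⟩
  · rw [Cores.derivedIn_eq_map]
    refine map_mono (le_iInf fun m => ?_)
    rcases le_total n m with h | h
    · exact (hn m h).le
    · exact derivedSeries_antitone ↥C h
  · rw [← Cores.derivedIn, Cores.derivedIn_eq_map, Cores.derivedIn_eq_map, hn (n + 1) n.le_succ]

theorem pres_perfect [Finite G] (C : Subgroup G) : ⁅pres C, pres C⁆ = pres C := by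
  obtain ⟨n, hn, hp⟩ := exists_pres_eq C
  rw [hn, hp]

/-- The residual is the largest perfect subgroup. -/
theorem le_pres [Finite G] {P C : Subgroup G} (hP : ⁅P, P⁆ = P) (h : P ≤ C) : P ≤ pres C := by
  obtain ⟨n, hn, -⟩ := exists_pres_eq C
  exact hn ▸ le_derivedIn hP h n

theorem pres_mono [Finite G] {C D : Subgroup G} (h : C ≤ D) : pres C ≤ pres D :=
  le_pres (pres_perfect C) ((pres_le C).trans h)

theorem pres_eq_self [Finite G] {P : Subgroup G} (hP : ⁅P, P⁆ = P) : pres P = P :=
  le_antisymm (pres_le P) (le_pres hP le_rfl)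

theorem map_derivedIn (f : G →* H) (C : Subgroup G) :
    ∀ n, (Cores.derivedIn C n).map f = Cores.derivedIn (C.map f) n
  | 0 => rfl
  | n + 1 => by rw [Cores.derivedIn, Cores.derivedIn, map_commutator, map_derivedIn f C n]

theorem map_pres [Finite G] [Finite H] (f : G →* H) (C : Subgroup G) :
    (pres C).map f = pres (C.map f) := by
  obtain ⟨n, hn, -⟩ := exists_pres_eq C
  refine le_antisymm (le_pres (by rw [← map_commutator, pres_perfect]) (map_mono (pres_le C))) ?_
  rw [hn, map_derivedIn]
  exact pres_le_derivedIn _ n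

theorem normalizer_le_normalizer_pres [Finite G] (C : Subgroup G) :
    normalizer (C : Set G) ≤ normalizer (pres C : Set G) := by
  intro g hg
  rw [mem_normalizer_iff_map_conj_eq] at hg ⊢
  show (pres C).map (MulAut.conj g).toMonoidHom = pres C
  rw [map_pres]
  exact congrArg pres hg

/-- A perfect subgroup of odd order is trivial. -/
theorem eq_bot_of_perfect_odd [Finite G] {P : Subgroup G} (hP : ⁅P, P⁆ = P)
    (hodd : Odd (Nat.card P)) : P = ⊥ := by
  haveI := OddOrder.FeitThompson.isSolvable_of_odd_card hodd
  by_contra hne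
  haveI := (Subgroup.nontrivial_iff_ne_bot P).2 hne
  refine (Group.IsSolvable.commutator_lt_top_of_nontrivial ↥P).ne
    (Subgroup.map_injective P.subtype_injective ?_)
  rw [commutator_def, map_commutator, ← MonoidHom.range_eq_map, range_subtype, hP]

end Cfsg.Agent.Lib.CentResidual33
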