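import Cfsg.Agent.Lib.CentResidual33.Step

/-!
# Climbing from `U` to `T`, and the local consequence

`local_normal`: in the normaliser of a fully normalised subgroup of `T` the residual `L` of
`C(T)` is normal modulo the core, given the theorem for smaller groups.

Owner: helper33.
-/

set_option autoImplicit false
set_option linter.style.haveILetI false

open Subgroup
open scoped commutatorElement

namespace Cfsg.Agent.Lib.CentResidual33

universe u

variable {G : Type u} [Group G] [Finite G]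

/-- A perfect group is the product of the residual of a subgroup covering it modulo the core and
the core. -/
theorem eq_pres_sup_core {X D : Subgroup G} (hX : ⁅X, X⁆ = X) (hD : D ≤ X)
    (hcov : ∀ x ∈ X, ∃ o ∈ Balance.coreIn 2 X, o * x ∈ D) :
    X = pres D ⊔ Balance.coreIn 2 X := by
  refine le_antisymm ?_ (sup_le ((pres_le D).trans hD) (Balance.coreIn_le X))
  haveI : (pPrimeCore 2 ↥X).Normal := inferInstance
  set q := QuotientGroup.mk' (pPrimeCore 2 ↥X) with hq
  have htop : (D.subgroupOf X).map q = ⊤ := by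
    rw [eq_top_iff]
    intro z _
    obtain ⟨x, rfl⟩ := QuotientGroup.mk'_surjective _ z
    obtain ⟨o, ho, hox⟩ := hcov x x.2
    obtain ⟨o', ho', rfl⟩ := mem_map.1 ho
    refine ⟨o' * x, hox, ?_⟩
    rw [map_mul, show q o' = 1 from (QuotientGroup.eq_one_iff o').2 ho', one_mul]
  have hperf : ⁅(⊤ : Subgroup ↥X), (⊤ : Subgroup ↥X)⁆ = (⊤ : Subgroup ↥X) := by
    apply map_injective X.subtype_injective
    rw [map_commutator, ← MonoidHom.range_eq_map, range_subtype, hX]
  have hperf' : ⁅(⊤ : Subgroup (↥X ⧸ pPrimeCore 2 ↥X)), (⊤ : Subgroup (↥X ⧸ pPrimeCore 2 ↥X))⁆ =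
      (⊤ : Subgroup (↥X ⧸ pPrimeCore 2 ↥X)) := by
    rw [← Subgroup.map_top_of_surjective q (QuotientGroup.mk'_surjective (pPrimeCore 2 ↥X)), ← map_commutator,
      hperf]
  have hres : (pres (D.subgroupOf X)).map q = ⊤ := by
    rw [map_pres, htop, pres_eq_self hperf']
  intro x hx
  obtain ⟨d, hd, hdx⟩ := mem_map.1 (hres.ge (mem_top (q ⟨x, hx⟩)))
  have h1 : d⁻¹ * ⟨x, hx⟩ ∈ pPrimeCore 2 ↥X := (QuotientGroup.eq (s := pPrimeCore 2 ↥X)).1 hdx
  have h2 : (d : G) ∈ pres D := by
    have h3 : (pres (D.subgroupOf X)).map X.subtype = pres D := by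
      rw [map_pres, subgroupOf_map_subtype, inf_eq_left.2 hD]
    exact h3 ▸ mem_map_of_mem _ hd
  have h4 : x = (d : G) * ((d⁻¹ * ⟨x, hx⟩ : ↥X) : G) := by simp
  rw [h4]
  exact mul_mem (mem_sup_left h2) (mem_sup_right (mem_map_of_mem _ h1))

/-- The core of a covering subgroup lies in the core. -/
theorem coreIn_le_of_cover {X X₁ : Subgroup G} (hle : X₁ ≤ X)
    (hX : X ≤ X₁ ⊔ Balance.coreIn 2 X) : Balance.coreIn 2 X₁ ≤ Balance.coreIn 2 X := by
  haveI : Fact (Nat.Prime 2) := ⟨Nat.prime_two⟩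
  haveI : (pPrimeCore 2 ↥X).Normal := inferInstance
  haveI : (pPrimeCore 2 ↥X₁).Normal := inferInstance
  set q := (QuotientGroup.mk' (pPrimeCore 2 ↥X)).comp (inclusion hle) with hq
  have hqs : Function.Surjective q := by
    intro z
    obtain ⟨x, rfl⟩ := QuotientGroup.mk'_surjective _ z
    obtain ⟨a, ha, o, ho, he⟩ := (Subgroup.mem_sup_of_normal_right
      (s := (X₁.subgroupOf X)) (t := pPrimeCore 2 ↥X) (x := x)).1 (by
        have h1 : X₁.subgroupOf X ⊔ pPrimeCore 2 ↥X = ⊤ := by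
          apply map_injective X.subtype_injective
          rw [Subgroup.map_sup, subgroupOf_map_subtype, inf_eq_left.2 hle, ← MonoidHom.range_eq_map,
            range_subtype]
          exact le_antisymm (sup_le hle (Balance.coreIn_le X)) hX
        rw [h1]; exact mem_top x)
    refine ⟨⟨a, ha⟩, ?_⟩
    rw [← he, map_mul, show (QuotientGroup.mk' (pPrimeCore 2 ↥X)) o = 1 from
      (QuotientGroup.eq_one_iff o).2 ho, mul_one]
    rfl
  have h1 : (pPrimeCore 2 ↥X₁).map q ≤ ⊥ := by
    rw [← Cores.pPrimeCore_quotient_pPrimeCore (G := ↥X) 2]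
    exact Cores.map_pPrimeCore_le q hqs
  intro x hx
  obtain ⟨y, hy, rfl⟩ := mem_map.1 hx
  exact mem_map.2 ⟨inclusion hle y, (QuotientGroup.eq_one_iff _).1 (mem_bot.1 (h1 (mem_map_of_mem q hy))),
    rfl⟩

/-- A normal subgroup of odd index contains the 2-elements. -/
theorem le_of_odd_cover {X X₁ R D : Subgroup G} (hR : IsPGroup 2 R) (hRD : R ≤ D) (hDX : D ≤ X)
    (hn : D ≤ normalizer (X₁ : Set G)) (hX₁ : X₁ ≤ D) (hX : X ≤ X₁ ⊔ Balance.coreIn 2 X) :
    R ≤ X₁ := by
  haveI : Fact (Nat.Prime 2) := ⟨Nat.prime_two⟩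
  have hXn : X ≤ normalizer (Balance.coreIn 2 X : Set G) :=
    le_normalizer.trans (Balance.normalizer_le_normalizer_coreIn X)
  -- `D = X₁ (D ⊓ O)`
  have hD : D ≤ X₁ ⊔ (D ⊓ Balance.coreIn 2 X) := by
    intro d hd
    have hsup : d ∈ X₁ ⊔ Balance.coreIn 2 X := hX (hDX hd)
    rw [← SetLike.mem_coe, coe_mul_of_left_le_normalizer_right _ _
      ((hX₁.trans hDX).trans hXn)] at hsup
    obtain ⟨a, ha, o, ho, rfl⟩ := hsup
    exact mul_mem (mem_sup_left ha) (mem_sup_right ⟨by simpa using mul_mem (inv_mem (hX₁ ha)) hd, ho⟩)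
  refine (le_of_two_group (A := R ⊓ X₁) (B := R) (M := R) inf_le_left le_rfl hR
    ?_).trans inf_le_right
  rw [inf_comm, inf_relIndex_right]
  intro h2
  have h3 : X₁.relIndex R ∣ X₁.relIndex (X₁ ⊔ (D ⊓ Balance.coreIn 2 X)) := by
    haveI : (X₁.subgroupOf (X₁ ⊔ (D ⊓ Balance.coreIn 2 X))).Normal :=
      (normal_subgroupOf_iff_le_normalizer le_sup_left).2
        (sup_le le_normalizer (inf_le_left.trans hn))
    rw [← relIndex_subgroupOf (hRD.trans hD)]
    exact relIndex_dvd_index_of_normal _ _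
  exact not_two_dvd_of_odd (odd_coreIn X) (h2.trans (h3.trans ((relIndex_sup_dvd_card
    (inf_le_left.trans hn)).trans (card_dvd_of_le inf_le_right))))

/-- `|L O : L|` divides `|O|` when `L` normalises `O`. -/
theorem relIndex_sup_dvd_card' {L O : Subgroup G} (h : L ≤ normalizer (O : Set G)) :
    L.relIndex (L ⊔ O) ∣ Nat.card O := by
  have h1 := relIndex_mul_relIndex ⊥ L (L ⊔ O) bot_le le_sup_left
  have h2 := relIndex_mul_relIndex ⊥ O (L ⊔ O) bot_le le_sup_right
  have h3 := relIndex_mul_relIndex ⊥ (O ⊓ L) L bot_le inf_le_right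
  rw [relIndex_bot_left, relIndex_bot_left, inf_relIndex_right] at h3
  rw [relIndex_bot_left, relIndex_bot_left, relIndex_sup_of_normalizes h] at h2
  rw [relIndex_bot_left, relIndex_bot_left, ← h2, ← h3] at h1
  refine ⟨Nat.card ↥(O ⊓ L), (Nat.eq_of_mul_eq_mul_right (m := O.relIndex L)
    (Nat.pos_of_ne_zero FiniteIndex.index_ne_zero) ?_).symm⟩
  rw [← h1]
  ring

/-- The climb. -/
theorem climb (S : Sylow 2 G) (T : Subgroup G) (hT : Cfsg.IsStronglyClosed T (S : Subgroup G)) :
    ∀ U : Subgroup G, U ≤ T →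
      ¬ 2 ∣ ((S : Subgroup G) ⊓ pres (centralizer (U : Set G))).relIndex
        (pres (centralizer (U : Set G))) →
      T ⊓ pres (centralizer (U : Set G)) ≤ U →
      pres (centralizer (U : Set G)) ≤ pres (centralizer (T : Set G)) ⊔
          Balance.coreIn 2 (pres (centralizer (U : Set G))) ∧
        (S : Subgroup G) ⊓ pres (centralizer (U : Set G)) =
          (S : Subgroup G) ⊓ pres (centralizer (T : Set G)) ∧
        ¬ 2 ∣ ((S : Subgroup G) ⊓ pres (centralizer (T : Set G))).relIndex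
          (pres (centralizer (T : Set G))) := by
  haveI : Fact (Nat.Prime 2) := ⟨Nat.prime_two⟩
  intro U
  induction hd : Nat.card T - Nat.card U using Nat.strong_induction_on generalizing U with
  | _ d ih =>
  intro hU hR hcen
  rcases eq_or_lt_of_le hU with rfl | hlt
  · exact ⟨le_sup_left, rfl, hR⟩
  set U₁ := T ⊓ normalizer (U : Set G) with hU₁
  have hlt₁ : U < U₁ := Fusion.Alperin.lt_inf_normalizer (S.2.to_le hT.1) hlt
  have hU₁T : U₁ ≤ T := inf_le_left
  set X := pres (centralizer (U : Set G)) with hX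
  set D := X ⊓ centralizer (U₁ : Set G) with hDdef
  have hcc : centralizer (U₁ : Set G) ≤ centralizer (U : Set G) :=
    centralizer_le (SetLike.coe_subset_coe.2 hlt₁.le)
  obtain ⟨hfix, hRfix⟩ := step S T X U₁ hT (pres_perfect _) hU₁T
    ((inf_le_right.trans (Balance.normalizer_le_normalizer_centralizer _)).trans
      (normalizer_le_normalizer_pres _)) hR
    (fun t ht => mem_centralizer_iff.2 fun x hx =>
      (mem_centralizer_iff.1 (pres_le (centralizer (U : Set G)) hx) t (hcen ht)).symm)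
  set X₁ := pres (centralizer (U₁ : Set G)) with hX₁def
  have hX₁ : X₁ = pres D := le_antisymm
    (le_pres (pres_perfect _) (le_inf (pres_mono hcc) (pres_le _)))
    (pres_mono inf_le_right)
  have hXX : X = X₁ ⊔ Balance.coreIn 2 X := by
    rw [hX₁]
    refine eq_pres_sup_core (pres_perfect _) inf_le_left fun x hx => ?_
    obtain ⟨o, ho, hox⟩ := hfix x hx
    exact ⟨o, ho, mul_mem (Balance.coreIn_le X ho) hx, hox⟩
  have hX₁X : X₁ ≤ X := pres_mono hcc
  have hRX₁ : (S : Subgroup G) ⊓ X ≤ X₁ := by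
    refine le_of_odd_cover (S.2.to_le inf_le_left) (le_inf inf_le_right hRfix) inf_le_left ?_
      (hX₁ ▸ pres_le D) hXX.le
    rw [hX₁]
    exact le_normalizer.trans (normalizer_le_normalizer_pres D)
  have hS : (S : Subgroup G) ⊓ X₁ = (S : Subgroup G) ⊓ X :=
    le_antisymm (inf_le_inf le_rfl hX₁X) (le_inf inf_le_left hRX₁)
  have hR₁ : ¬ 2 ∣ ((S : Subgroup G) ⊓ X₁).relIndex X₁ := by
    rw [hS]
    exact fun h => hR (h.trans ⟨X₁.relIndex X, (relIndex_mul_relIndex _ _ _ hRX₁ hX₁X).symm⟩)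
  have hcard : Nat.card T - Nat.card U₁ < d := by
    have h1 : Nat.card U < Nat.card U₁ :=
      lt_of_le_of_ne (card_le_of_le hlt₁.le) fun e => hlt₁.ne (eq_of_le_of_card_ge hlt₁.le e.ge)
    have h2 := card_le_of_le hU₁T
    omega
  obtain ⟨h1, h2, h3⟩ := ih _ hcard U₁ rfl hU₁T hR₁
    ((inf_le_inf le_rfl hX₁X).trans (hcen.trans hlt₁.le))
  refine ⟨?_, hS ▸ h2, h3⟩
  have h4 : Balance.coreIn 2 X₁ ≤ Balance.coreIn 2 X := coreIn_le_of_cover hX₁X hXX.le
  exact hXX.le.trans (sup_le (h1.trans (sup_le_sup le_rfl h4)) le_sup_right)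

/-- The theorem for the groups of order less than `m`. -/
def Below33.{w} (m : ℕ) : Prop :=
  ∀ (H : Type w) [Group H] [Finite H], Nat.card H < m → pPrimeCore 2 H = ⊥ →
    ∀ (S : Sylow 2 H) (T : Subgroup H), Cfsg.IsStronglyClosed T (S : Subgroup H) →
      (pres (centralizer (T : Set H))).Normal

/-- The residual of `C(T)` is normal modulo the core in local subgroups. -/
theorem local_normal (S : Sylow 2 G) (T : Subgroup G)
    (hT : Cfsg.IsStronglyClosed T (S : Subgroup G)) (hbelow : Below33.{u} (Nat.card G))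
    (V : Subgroup G) (hV : V ≤ T) (hfn : ¬ 2 ∣ ((S : Subgroup G) ⊓ normalizer (V : Set G)).relIndex
      (normalizer (V : Set G)))
    (hne : normalizer (V : Set G) ≠ ⊤) :
    ∃ M : Subgroup G, normalizer (V : Set G) ≤ normalizer (M : Set G) ∧
      pres (centralizer (T : Set G)) ≤ M ∧
      (S : Subgroup G) ⊓ normalizer (V : Set G) ⊓ M =
        (S : Subgroup G) ⊓ pres (centralizer (T : Set G)) := by
  haveI : Fact (Nat.Prime 2) := ⟨Nat.prime_two⟩
  set Y := normalizer (V : Set G) with hY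
  set L := pres (centralizer (T : Set G)) with hL
  set U := T ⊓ Y with hU
  have hVU : V ≤ U := le_inf hV le_normalizer
  have hcY : centralizer (U : Set G) ≤ Y :=
    (centralizer_le (SetLike.coe_subset_coe.2 hVU)).trans (Subgroup.centralizer_le_normalizer _)
  set O := Balance.coreIn 2 Y with hOdef
  have hOY : O ≤ Y := Balance.coreIn_le Y
  have hYO : Y ≤ normalizer (O : Set G) :=
    le_normalizer.trans (Balance.normalizer_le_normalizer_coreIn Y)
  -- `X` with its Sylow subgroup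
  set X := pres (centralizer (U : Set G)) with hX
  have hXY : X ≤ Y := (pres_le _).trans hcY
  have hSU : (S : Subgroup G) ⊓ Y ≤ normalizer (U : Set G) := by
    intro s hs
    rw [mem_normalizer_iff]
    intro t
    constructor
    · exact fun ht => ⟨hT.2 t ht.1 s ((S : Subgroup G).mul_mem ((S : Subgroup G).mul_mem hs.1
        (hT.1 ht.1)) ((S : Subgroup G).inv_mem hs.1)), Y.mul_mem (Y.mul_mem hs.2 ht.2) (Y.inv_mem hs.2)⟩
    · intro ht
      have e : t = s⁻¹ * (s * t * s⁻¹) * s⁻¹⁻¹ := by group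
      rw [e]
      exact ⟨hT.2 _ ht.1 s⁻¹ ((S : Subgroup G).mul_mem ((S : Subgroup G).mul_mem
        ((S : Subgroup G).inv_mem hs.1) (hT.1 ht.1)) ((S : Subgroup G).inv_mem ((S : Subgroup G).inv_mem hs.1))),
        Y.mul_mem (Y.mul_mem (Y.inv_mem hs.2) ht.2) (Y.inv_mem (Y.inv_mem hs.2))⟩
  set N := normalizer (U : Set G) ⊓ Y with hN
  have hXN : X ≤ N := le_inf ((pres_le _).trans (Subgroup.centralizer_le_normalizer _)) hXY
  have hR : ¬ 2 ∣ ((S : Subgroup G) ⊓ X).relIndex X := by
    have h1 := relIndex_inf_normal (p := 2) (P := (S : Subgroup G) ⊓ Y) (N := N) (X := X)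
      (le_inf hSU inf_le_right) hXN
      ((inf_le_left.trans (Balance.normalizer_le_normalizer_centralizer _)).trans
        (normalizer_le_normalizer_pres _))
      (fun h => hfn (h.trans ⟨N.relIndex Y,
        (relIndex_mul_relIndex _ _ _ (le_inf hSU inf_le_right) inf_le_right).symm⟩))
    rwa [inf_assoc, inf_eq_right.2 hXY] at h1
  have hcen : T ⊓ X ≤ U := le_inf inf_le_left (inf_le_right.trans hXY)
  obtain ⟨hXL, hRL, hLodd⟩ := climb S T hT U inf_le_left hR hcen
  have hLX : L ≤ X := pres_mono (centralizer_le (SetLike.coe_subset_coe.2 inf_le_left))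
  -- in `Y` modulo its core
  set SY : Sylow 2 ↥Y := (S.2.comap_subtype (K := Y)).toSylow
    (by
      change ¬ 2 ∣ (S : Subgroup G).relIndex Y
      rw [← inf_relIndex_right]
      exact hfn) with hSY
  set f := QuotientGroup.mk' (pPrimeCore 2 ↥Y) with hf
  have hfs : Function.Surjective f := QuotientGroup.mk'_surjective _
  set T' := U.subgroupOf Y with hT'
  have hTY : Cfsg.IsStronglyClosed T' (SY : Subgroup ↥Y) :=
    ⟨fun t ht => hT.1 ht.1, fun t ht y hy => ⟨hT.2 _ ht.1 _ hy, (y * t * y⁻¹).2⟩⟩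
  have hcard : Nat.card (↥Y ⧸ pPrimeCore 2 ↥Y) < Nat.card G := by
    refine lt_of_le_of_lt (Nat.card_le_card_of_surjective f hfs) (lt_of_le_of_ne ?_ fun e => hne ?_)
    · exact Nat.card_le_card_of_injective _ Y.subtype_injective
    · exact eq_top_of_card_eq _ e
  have hnorm := hbelow _ hcard (Cores.pPrimeCore_quotient_pPrimeCore 2) (SY.mapSurjective hfs)
    (T'.map f) (Cfsg.Agent.S1250.result SY T' hTY _)
  have hcent : centralizer (T'.map f : Set (↥Y ⧸ pPrimeCore 2 ↥Y)) =
      (centralizer (T' : Set ↥Y)).map f := by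
    refine le_antisymm ?_ ?_
    · intro z hz
      obtain ⟨y, rfl⟩ := hfs z
      obtain ⟨n, hn, hny⟩ := exists_fixed_of_comm (A := T') (N := pPrimeCore 2 ↥Y) (k := y)
        (SY.2.to_le hTY.1) (Nat.coprime_two_right.1 (Cores.pPrimeCore_coprime 2))
        (by rw [normalizer_eq_top]; exact le_top) (fun a ha => by
          refine (QuotientGroup.eq_one_iff (N := pPrimeCore 2 ↥Y) _).1 ?_
          show f (a * y * a⁻¹ * y⁻¹) = 1
          rw [map_mul, map_mul, map_mul, map_inv, map_inv,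
            mem_centralizer_iff.1 hz _ (mem_map_of_mem f ha)]
          group)
      refine ⟨n * y, hny, ?_⟩
      rw [map_mul, show f n = 1 from (QuotientGroup.eq_one_iff n).2 hn, one_mul]
    · rintro _ ⟨y, hy, rfl⟩
      rw [mem_centralizer_iff]
      rintro _ ⟨a, ha, rfl⟩
      rw [← map_mul, ← map_mul, mem_centralizer_iff.1 hy a ha]
  rw [hcent, ← map_pres] at hnorm
  set M' := (pres (centralizer (T' : Set ↥Y))).map f |>.comap f with hM'
  haveI : M'.Normal := hnorm.comap f
  have hpY : (pres (centralizer (T' : Set ↥Y))).map Y.subtype = X := by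
    rw [map_pres, hX]
    congr 1
    ext z
    constructor
    · rintro ⟨y, hy, rfl⟩
      exact mem_centralizer_iff.2 fun a ha =>
        congrArg Subtype.val (mem_centralizer_iff.1 hy ⟨a, ha.2⟩ (show (⟨a, ha.2⟩ : ↥Y) ∈ T' from ha))
    · intro hz
      exact ⟨⟨z, hcY hz⟩, mem_centralizer_iff.2 fun a ha =>
        Subtype.ext (mem_centralizer_iff.1 hz _ ha), rfl⟩
  have hM : M'.map Y.subtype = X ⊔ O := by
    rw [hM', comap_map_eq, Subgroup.map_sup, hpY, QuotientGroup.ker_mk']
    rfl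
  have hXO : Balance.coreIn 2 X ≤ O := by
    set X' := pres (centralizer (T' : Set ↥Y)) with hX'
    haveI := hnorm
    have hb : pPrimeCore 2 ↥(X'.map f) = ⊥ :=
      pPrimeCore_normal_eq_bot (Cores.pPrimeCore_quotient_pPrimeCore 2) _
    intro x hx
    obtain ⟨x₀, hx₀, rfl⟩ := mem_map.1 hx
    have hmem : ∀ w : ↥X, inclusion hXY w ∈ X' := fun w => by
      obtain ⟨y, hy, hyw⟩ := mem_map.1 (hpY.ge w.2)
      exact (Subtype.ext hyw : y = inclusion hXY w) ▸ hy
    let g : ↥X →* ↥(X'.map f) := (f.comp (inclusion hXY)).codRestrict _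
      fun w => mem_map_of_mem f (hmem w)
    have hgs : Function.Surjective g := by
      rintro ⟨_, z, hz, rfl⟩
      exact ⟨⟨z, hpY.le (mem_map_of_mem _ hz)⟩, Subtype.ext rfl⟩
    have h2 : g x₀ = 1 := by
      have := Cores.map_pPrimeCore_le (p := 2) g hgs (mem_map_of_mem g hx₀)
      rwa [hb, mem_bot] at this
    have h3 : inclusion hXY x₀ ∈ pPrimeCore 2 ↥Y :=
      (QuotientGroup.eq_one_iff _).1 (congrArg Subtype.val h2)
    exact mem_map_of_mem Y.subtype h3
  have hM2 : M'.map Y.subtype = L ⊔ O := by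
    rw [hM]
    exact le_antisymm (sup_le (hXL.trans (sup_le_sup le_rfl hXO)) le_sup_right)
      (sup_le_sup hLX le_rfl)
  refine ⟨L ⊔ O, ?_, le_sup_left, ?_⟩
  · rw [← hM2]
    intro y hy
    rw [mem_normalizer_iff_map_conj_eq]
    show (M'.map Y.subtype).map (MulAut.conj y).toMonoidHom = _
    rw [map_map, show (MulAut.conj y).toMonoidHom.comp Y.subtype =
      Y.subtype.comp (MulAut.conj (⟨y, hy⟩ : ↥Y)).toMonoidHom from rfl, ← map_map]
    congr 1
    exact Subgroup.Normal.map_conj_eq (H := M') (⟨y, hy⟩ : ↥Y)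
  · have hle : (S : Subgroup G) ⊓ L ≤ (S : Subgroup G) ⊓ Y ⊓ (L ⊔ O) :=
      le_inf (le_inf inf_le_left (inf_le_right.trans (hLX.trans hXY))) (inf_le_right.trans le_sup_left)
    refine le_antisymm (le_of_two_group hle inf_le_right (S.2.to_le (inf_le_left.trans inf_le_left))
      ?_) hle
    rw [← relIndex_mul_relIndex _ L _ inf_le_right le_sup_left]
    exact fun h => (Nat.prime_two.dvd_mul.1 h).elim hLodd fun h' =>
      not_two_dvd_of_odd (odd_coreIn Y) (h'.trans (relIndex_sup_dvd_card'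
        ((hLX.trans hXY).trans hYO)))

end Cfsg.Agent.Lib.CentResidual33
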