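import Cfsg.Agent.Lib.CentResidual33.Basic
import Cfsg.Agent.Lib.Goldschmidt53.Facts
import Cfsg.Agent.Lib.Balance.FixingPerfect
import Cfsg.Agent.Lib.OutSol3066.Main
import Cfsg.Agent.Lib.ZStar.StronglyClosed

/-!
# Perfect automorphism groups fixing `Ω₁` of a Sylow 2-subgroup of a known group are trivial

Owner: helper33.
-/

set_option autoImplicit false
set_option linter.style.haveILetI false

open Subgroup
open scoped commutatorElement

namespace Cfsg.Agent.Lib.CentResidual33

universe u

/-- The automorphism induced on the quotient by the centre. -/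
def autQuot (K : Type u) [Group K] : MulAut K →* MulAut (K ⧸ center K) where
  toFun φ := QuotientGroup.congr (center K) (center K) φ
    (Subgroup.characteristic_iff_map_eq.1 inferInstance φ)
  map_one' := MulEquiv.ext fun x => QuotientGroup.induction_on x fun _ => rfl
  map_mul' _ _ := MulEquiv.ext fun x => QuotientGroup.induction_on x fun _ => rfl

theorem autQuot_mk {K : Type u} [Group K] (φ : MulAut K) (k : K) :
    autQuot K φ (QuotientGroup.mk' (center K) k) = QuotientGroup.mk' (center K) (φ k) := rfl

theorem eq_bot_of_perfect_solvable {G : Type u} [Group G] {P : Subgroup G} (hP : ⁅P, P⁆ = P)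
    [Group.IsSolvable ↥P] : P = ⊥ := by
  by_contra hne
  haveI := (Subgroup.nontrivial_iff_ne_bot P).2 hne
  refine (Group.IsSolvable.commutator_lt_top_of_nontrivial ↥P).ne
    (Subgroup.map_injective P.subtype_injective ?_)
  rw [commutator_def, map_commutator, ← MonoidHom.range_eq_map, range_subtype, hP]

variable {L : Type u} [Group L] [Finite L]

open Goldschmidt53 in
/-- A perfect group of automorphisms fixing `Ω₁(P)` pointwise is trivial. -/
theorem perfect_fix_eq_bot (hL : IsKnown L) (P : Sylow 2 L) (Γ : Subgroup (MulAut L))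
    (hperf : ⁅Γ, Γ⁆ = Γ) (hfix : ∀ φ ∈ Γ, ∀ x ∈ Om P, φ x = x) : Γ = ⊥ := by
  classical
  haveI : Fact (Nat.Prime 2) := ⟨Nat.prime_two⟩
  haveI : Finite (MulAut L) :=
    Finite.of_injective (fun φ : MulAut L => (φ : L → L)) DFunLike.coe_injective
  have F := facts L hL
  haveI := F.simple
  rcases hL with hA | hB
  · -- abelian Sylow subgroups
    have K := (Walter.knownFacts BenderOne.propSplitFinal).1 L hA
    have hfix' : ∀ φ ∈ Γ, ∀ x ∈ P, φ x = x := fun φ hφ x hx =>
      hfix φ hφ x (PGroups.mem_omegaOne_of_pow hx ((K.elementary P).2 x hx))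
    refine eq_bot_of_perfect_odd hperf ?_
    refine Balance.Fixing.card_odd_of_perfect ZStar.StronglyClosed.involutionThm (fun N hN hodd => ?_)
      P Γ hperf hfix'
    rcases IsSimpleGroup.eq_bot_or_eq_top_of_normal N hN with h | h
    · exact h
    · exfalso
      have h4 := K.four_le P
      obtain ⟨k, hk⟩ := P.2.exists_card_eq
      have hd : 2 ∣ Nat.card (P : Subgroup L) := by
        rw [hk] at h4 ⊢
        rcases k with _ | k
        · norm_num at h4
        · exact dvd_pow_self 2 k.succ_ne_zero
      rw [h, card_top] at hodd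
      exact Nat.not_even_iff_odd.2 hodd
        (even_iff_two_dvd.2 (hd.trans (card_subgroup_dvd_card _)))
  · -- the outer group is solvable and centralisers of involutions are solvable
    haveI : Group.IsSolvable (Cfsg.Out L) := OutSol3066.Main.out_of_target (Or.inr hB)
    have hinn : Γ ≤ Cfsg.Inn L := by
      have hp : ⁅Γ.map (QuotientGroup.mk' (Cfsg.Inn L)), Γ.map (QuotientGroup.mk' (Cfsg.Inn L))⁆ =
          Γ.map (QuotientGroup.mk' (Cfsg.Inn L)) := by rw [← map_commutator, hperf]
      have h := eq_bot_of_perfect_solvable hp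
      rw [Subgroup.map_eq_bot_iff, QuotientGroup.ker_mk'] at h
      exact h
    have hinj : Function.Injective (MulAut.conj : L →* MulAut L) := by
      rw [← MonoidHom.ker_eq_bot_iff, eq_bot_iff]
      intro g hg
      rw [← FTClassSize.center_eq_bot_of_simple F.nonabelian]
      refine mem_center_iff.2 fun x => ?_
      have h1 : g * x * g⁻¹ = x := MulEquiv.congr_fun (MonoidHom.mem_ker.1 hg) x
      exact (mul_inv_eq_iff_eq_mul.1 h1).symm
    set Γ₀ := Γ.comap (MulAut.conj : L →* MulAut L) with hΓ₀
    have hmap : Γ₀.map (MulAut.conj : L →* MulAut L) = Γ := by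
      rw [hΓ₀, map_comap_eq, inf_eq_right]
      exact hinn
    have hp₀ : ⁅Γ₀, Γ₀⁆ = Γ₀ := map_injective hinj (by rw [map_commutator, hmap, hperf])
    have hloc : BenderLocal L (P : Subgroup L) := by
      rcases hB with hSz | ⟨F', i, j, n, hn, hF, ⟨e⟩⟩
      · exact suzuki_local hSz P
      · exact @unitary_local L _ _ F' i j n hn hF e P
    obtain ⟨u, hu, hu1⟩ := (Om P).bot_or_exists_ne_one.resolve_left fun h => by
      have := F.four_le P
      rw [h, card_bot] at this
      omega
    have hu2 : u * u = 1 := by rw [← pow_two]; exact (F.omega_elementary P).2 u hu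
    haveI : Group.IsSolvable ↥(centralizer ({u} : Set L)) :=
      hloc.solvable u (PGroups.omegaOne_le 2 _ hu) hu2 hu1
    have hle : Γ₀ ≤ centralizer ({u} : Set L) := fun g hg => mem_centralizer_singleton_iff.2
      (mul_inv_eq_iff_eq_mul.1 (hfix _ hg u hu))
    haveI : Group.IsSolvable ↥Γ₀ :=
      Group.isSolvable_of_isSolvable_injective (inclusion_injective hle)
    rw [← hmap, eq_bot_of_perfect_solvable hp₀, Subgroup.map_bot]

end Cfsg.Agent.Lib.CentResidual33
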