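import Cfsg.Agent.Lib.CentResidual33.Climb
import Cfsg.Agent.Lib.PGroups.Omega

/-!
# The Sylow 2-subgroup of the residual is strongly closed

Descending induction on the domain of a conjugation, as in Alperin's theorem.

Owner: helper33.
-/

set_option autoImplicit false
set_option linter.style.haveILetI false

open Subgroup Cfsg.Agent.Lib.Fusion.Alperin

namespace Cfsg.Agent.Lib.CentResidual33

universe u

variable {G : Type u} [Group G] [Finite G]

theorem fullyNormalized_index {P : Sylow 2 G} {D : Subgroup G}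
    (h : IsFullyNormalized 2 (P : Subgroup G) D) :
    ¬ 2 ∣ ((P : Subgroup G) ⊓ normalizer (D : Set G)).relIndex (normalizer (D : Set G)) := by
  haveI : Fact (Nat.Prime 2) := ⟨Nat.prime_two⟩
  set N := normalizer (D : Set G)
  set P₀ := (P : Subgroup G) ⊓ N
  obtain ⟨Q, hQ⟩ := ((P.2.to_le (inf_le_left : P₀ ≤ _)).comap_subtype (K := N)).exists_le_sylow
  have hle : P₀ ≤ (Q : Subgroup N).map N.subtype := fun x hx =>
    ⟨⟨x, hx.2⟩, hQ (show N.subtype ⟨x, hx.2⟩ ∈ P₀ from hx), rfl⟩
  have heq := h _ (Q.2.map N.subtype) (map_subtype_le _) hle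
  intro hd
  refine Q.not_dvd_index ?_
  have : (Q : Subgroup N) = P₀.subgroupOf N := by
    rw [← show (Q : Subgroup N).map N.subtype = P₀ from heq, subgroupOf,
      comap_map_eq_self_of_injective N.subtype_injective]
  rw [this]
  exact hd

theorem exists_conj_le_of_odd {N P U : Subgroup G} (hP : IsPGroup 2 P) (hPN : P ≤ N)
    (h : ¬ 2 ∣ P.relIndex N) (hU : IsPGroup 2 U) (hUN : U ≤ N) : ∃ n ∈ N, conjS n U ≤ P := by
  haveI : Fact (Nat.Prime 2) := ⟨Nat.prime_two⟩
  exact exists_conj_le_of_maximal hP hPN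
    (fun W hW hWN hPW => le_antisymm (le_of_two_group hPW hWN hW h) hPW) hU hUN

/-- Conjugation by `g` maps `L`-elements of `D` into `L`. -/
def Good (L D : Subgroup G) (g : G) : Prop :=
  ∀ x ∈ D, x ∈ L → g * x * g⁻¹ ∈ L

variable (S : Sylow 2 G) (T : Subgroup G)

/-- Conjugation inside `S` by elements of normalisers preserves the residual. -/
theorem good_step (hT : Cfsg.IsStronglyClosed T (S : Subgroup G)) (hTne : T ≠ ⊥)
    (hbelow : Below33.{u} (Nat.card G))
    (hnn : ∀ V : Subgroup G, V ≤ T → V ≠ ⊥ → normalizer (V : Set G) ≠ ⊤)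
    (D₀ : Subgroup G) (hD : D₀ ≤ (S : Subgroup G)) (hlt : D₀ < (S : Subgroup G))
    (hfn : IsFullyNormalized 2 (S : Subgroup G) D₀)
    (ih : ∀ (B : Subgroup G) (g : G), Nat.card D₀ < Nat.card B → B ≤ (S : Subgroup G) →
      conjS g B ≤ (S : Subgroup G) → Good (pres (centralizer (T : Set G))) B g)
    (n : G) (hn : n ∈ normalizer (D₀ : Set G)) :
    Good (pres (centralizer (T : Set G))) D₀ n := by
  haveI : Fact (Nat.Prime 2) := ⟨Nat.prime_two⟩
  set L := pres (centralizer (T : Set G))
  set C := centralizer (D₀ : Set G) with hC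
  have hCN : C ≤ normalizer (D₀ : Set G) := Subgroup.centralizer_le_normalizer _
  have hNC : normalizer (D₀ : Set G) ≤ normalizer (C : Set G) :=
    Balance.normalizer_le_normalizer_centralizer D₀
  have hcard : ∀ B : Subgroup G, D₀ < B → Nat.card D₀ < Nat.card B := fun B hB =>
    lt_of_le_of_ne (card_le_of_le hB.le) fun e => hB.ne (eq_of_le_of_card_ge hB.le e.ge)
  intro x hx hxL
  by_cases hc : (S : Subgroup G) ⊓ C ≤ D₀
  · -- centric: move `T ⊓ D₀` to a fully normalised subgroup of `T`
    set V := T ⊓ D₀ with hV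
    have hVne : V ≠ ⊥ := by
      intro e
      haveI : (T.subgroupOf (S : Subgroup G)).Normal :=
        ⟨fun s hs p => hT.2 _ hs (p : G) (p * s * p⁻¹).2⟩
      refine PGroups.normal_inf_center_ne_bot S.2 (T.subgroupOf (S : Subgroup G)) (fun e' => hTne ?_) ?_
      · rw [subgroupOf_eq_bot, disjoint_iff, inf_eq_left.2 hT.1] at e'
        exact e'
      · rw [eq_bot_iff]
        intro z hz
        have hzC : (z : G) ∈ C := mem_centralizer_iff.2 fun d hd =>
          congrArg Subtype.val (mem_center_iff.1 hz.2 ⟨d, hD hd⟩)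
        have : (z : G) ∈ V := ⟨hz.1, hc ⟨z.2, hzC⟩⟩
        rw [e, mem_bot] at this
        exact mem_bot.2 (Subtype.ext this)
    have hNV : ∀ m ∈ normalizer (D₀ : Set G), m ∈ normalizer (V : Set G) := by
      intro m hm
      have key : ∀ m ∈ normalizer (D₀ : Set G), ∀ v ∈ V, m * v * m⁻¹ ∈ V := fun m hm v hv =>
        ⟨hT.2 v hv.1 m (hD ((mem_normalizer_iff.1 hm v).1 hv.2)), (mem_normalizer_iff.1 hm v).1 hv.2⟩
      rw [mem_normalizer_iff]
      refine fun v => ⟨key m hm v, fun hv => ?_⟩
      have := key m⁻¹ (inv_mem hm) _ hv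
      simpa [mul_assoc] using this
    obtain ⟨k, hkV, hkB, hkfn⟩ := exists_fullyNormalized S V (inf_le_right.trans hD)
    set B := (S : Subgroup G) ⊓ normalizer (V : Set G) with hB
    have hD₀B : D₀ ≤ B := le_inf hD fun d hd => hNV d (le_normalizer hd)
    have hBlt : Nat.card D₀ < Nat.card B :=
      (hcard _ (lt_inf_normalizer S.2 hlt)).trans_le
        (card_le_of_le (le_inf inf_le_left fun m hm => hNV m hm.2))
    have hkT : conjS k V ≤ T := by
      intro y hy
      have hy' := hkV hy
      rw [mem_conjS] at hy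
      have e : y = k * (k⁻¹ * y * k) * k⁻¹ := by group
      rw [e] at hy' ⊢
      exact hT.2 _ hy.1 k hy'
    have hkne : conjS k V ≠ ⊥ := fun e => hVne (by
      rw [← card_eq_one, ← card_conjS k V, e, card_eq_one])
    obtain ⟨M, hM, hLM, hRM⟩ := local_normal S T hT hbelow (conjS k V) hkT
      (fullyNormalized_index hkfn) (hnn _ hkT hkne)
    have hmove : ∀ m ∈ normalizer (V : Set G), k * m * k⁻¹ ∈ normalizer (conjS k V : Set G) := by
      intro m hm
      rw [← conjS_normalizer]
      exact conj_mem_conjS hm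
    set y := k * x * k⁻¹ with hy
    have hyL : y ∈ L := ih B k hBlt inf_le_left hkB x (hD₀B hx) hxL
    set n' := k * n * k⁻¹ with hn'
    have hn'N : n' ∈ normalizer (conjS k V : Set G) := hmove n (hNV n hn)
    have hnx : n * x * n⁻¹ ∈ D₀ := (mem_normalizer_iff.1 hn x).1 hx
    have e : n' * y * n'⁻¹ = k * (n * x * n⁻¹) * k⁻¹ := by rw [hn', hy]; group
    have hzM : n' * y * n'⁻¹ ∈ M := (mem_normalizer_iff.1 (hM hn'N) y).1 (hLM hyL)
    have hzL : k * (n * x * n⁻¹) * k⁻¹ ∈ L := by
      rw [← e]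
      have h1 : n' * y * n'⁻¹ ∈ (S : Subgroup G) ⊓ L := by
        rw [← hRM]
        refine ⟨⟨?_, ?_⟩, hzM⟩
        · rw [e]; exact hkB (conj_mem_conjS (hD₀B hnx))
        · rw [e]; exact hmove _ (hNV _ (le_normalizer hnx))
      exact h1.2
    have := ih (conjS k B) k⁻¹ (by rw [card_conjS]; exact hBlt) hkB
      (by rw [conjS_inv_conjS]; exact inf_le_left) _ (conj_mem_conjS (hD₀B hnx)) hzL
    simpa [mul_assoc] using this
  · -- not centric: correct `n` by an element of `C(D₀)`
    set P₀ := (S : Subgroup G) ⊓ C with hP₀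
    have hidx : ¬ 2 ∣ P₀.relIndex C := by
      have h1 := relIndex_inf_normal (p := 2) (P := (S : Subgroup G) ⊓ normalizer (D₀ : Set G))
        (N := normalizer (D₀ : Set G)) (X := C) inf_le_right hCN hNC (fullyNormalized_index hfn)
      rwa [inf_assoc, inf_eq_right.2 hCN] at h1
    have hP₀n : conjS n P₀ ≤ C := (conjS_mono inf_le_right).trans
      (conjS_eq_of_mem_normalizer (hNC hn)).le
    obtain ⟨c, hc', hcP⟩ := exists_conj_le_of_odd (S.2.to_le inf_le_left) inf_le_right hidx
      ((S.2.to_le inf_le_left).map _) hP₀n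
    set B := D₀ ⊔ P₀ with hB
    have hBS : B ≤ (S : Subgroup G) := sup_le hD inf_le_left
    have hBlt : Nat.card D₀ < Nat.card B := hcard _ (lt_of_le_of_ne le_sup_left
      fun e => hc (le_sup_right.trans e.ge))
    have hcnD : conjS (c * n) D₀ = D₀ :=
      conjS_eq_of_mem_normalizer (mul_mem (hCN hc') hn)
    have hBg : conjS (c * n) B ≤ (S : Subgroup G) := by
      have : B ≤ conjS (c * n)⁻¹ (S : Subgroup G) := sup_le
        (conjS_le_iff.1 (hcnD.le.trans hD))
        (conjS_le_iff.1 ((conjS_mul c n P₀).le.trans (hcP.trans inf_le_left)))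
      exact conjS_le_iff.2 this
    have h1 := ih B (c * n) hBlt hBS hBg x (mem_sup_left hx) hxL
    have hnx : n * x * n⁻¹ ∈ D₀ := (mem_normalizer_iff.1 hn x).1 hx
    have hcc := mem_centralizer_iff.1 hc' _ hnx
    have e : c * n * x * (c * n)⁻¹ = n * x * n⁻¹ := by
      rw [show c * n * x * (c * n)⁻¹ = c * (n * x * n⁻¹) * c⁻¹ by group, ← hcc, mul_inv_cancel_right]
    rwa [e] at h1

/-- **The residual meets `S` in a strongly closed subgroup.** -/
theorem residual_closed (hT : Cfsg.IsStronglyClosed T (S : Subgroup G)) (hTne : T ≠ ⊥)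
    (hbelow : Below33.{u} (Nat.card G))
    (hnn : ∀ V : Subgroup G, V ≤ T → V ≠ ⊥ → normalizer (V : Set G) ≠ ⊤) :
    Cfsg.IsStronglyClosed ((S : Subgroup G) ⊓ pres (centralizer (T : Set G))) (S : Subgroup G) := by
  haveI : Fact (Nat.Prime 2) := ⟨Nat.prime_two⟩
  set L := pres (centralizer (T : Set G))
  have key : ∀ (d : ℕ) (D : Subgroup G) (g : G), Nat.card (S : Subgroup G) - Nat.card D = d →
      D ≤ (S : Subgroup G) → conjS g D ≤ (S : Subgroup G) → Good L D g := by
    intro d
    induction d using Nat.strong_induction_on with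
    | _ d ihd =>
    intro D g hd hD hgD x hx hxL
    rcases eq_or_lt_of_le hD with rfl | hlt
    · -- `g` normalises `S`
      have hgT : conjS g T = T := by
        refine eq_of_le_of_card_ge (fun y hy => ?_) (card_conjS g T).ge
        have hy' := hgD (conjS_mono hT.1 hy)
        rw [mem_conjS] at hy
        have e : y = g * (g⁻¹ * y * g) * g⁻¹ := by group
        rw [e] at hy' ⊢
        exact hT.2 _ hy g hy'
      have hgN : g ∈ normalizer (L : Set G) := normalizer_le_normalizer_pres _
        (Balance.normalizer_le_normalizer_centralizer T (mem_normalizer_of_conjS_eq hgT))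
      exact (mem_normalizer_iff.1 hgN x).1 hxL
    have ih : ∀ (B : Subgroup G) (f : G), Nat.card D < Nat.card B → B ≤ (S : Subgroup G) →
        conjS f B ≤ (S : Subgroup G) → Good L B f := by
      intro B f hlt' hB hfB
      refine ihd _ ?_ B f rfl hB hfB
      have := card_le_of_le hB
      omega
    obtain ⟨k, hkD, hkB, hkfn⟩ := exists_fullyNormalized S D hD
    set D₀ := conjS k D with hD₀
    set N₀ := normalizer (D₀ : Set G) with hN₀
    set B := (S : Subgroup G) ⊓ normalizer (D : Set G) with hB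
    have hDB : D < B := lt_inf_normalizer S.2 hlt
    have hBlt : Nat.card D < Nat.card B :=
      lt_of_le_of_ne (card_le_of_le hDB.le) fun e => hDB.ne (eq_of_le_of_card_ge hDB.le e.ge)
    have hlt₀ : D₀ < (S : Subgroup G) := lt_of_le_of_ne hkD fun e => by
      have h1 : Nat.card D < Nat.card (S : Subgroup G) :=
        hBlt.trans_le (card_le_of_le inf_le_left)
      rw [← e, hD₀, card_conjS] at h1
      exact lt_irrefl _ h1
    -- bring `conjS g D` to `D₀` keeping its normaliser in `S`
    set D' := conjS g D with hD'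
    set B' := (S : Subgroup G) ⊓ normalizer (D' : Set G) with hB'
    have hlt' : D' < (S : Subgroup G) := lt_of_le_of_ne hgD fun e => by
      have h1 : Nat.card D < Nat.card (S : Subgroup G) :=
        hBlt.trans_le (card_le_of_le inf_le_left)
      rw [← e, hD', card_conjS] at h1
      exact lt_irrefl _ h1
    have hB'lt : Nat.card D < Nat.card B' := by
      have h2 : D' < B' := lt_inf_normalizer S.2 hlt'
      calc Nat.card D = Nat.card D' := (card_conjS g D).symm
        _ < Nat.card B' := lt_of_le_of_ne (card_le_of_le h2.le)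
            fun e => h2.ne (eq_of_le_of_card_ge h2.le e.ge)
    have hmapD : conjS (k * g⁻¹) D' = D₀ := by rw [hD', conjS_mul, conjS_inv_conjS]
    have hU : conjS (k * g⁻¹) B' ≤ N₀ := by
      rw [hN₀, ← hmapD, ← conjS_normalizer]
      exact conjS_mono inf_le_right
    obtain ⟨c, hc, hcle⟩ := exists_conj_le_of_odd (S.2.to_le inf_le_left) inf_le_right
      (fullyNormalized_index hkfn) ((S.2.to_le (inf_le_left : B' ≤ _)).map _) hU
    set h := c * (k * g⁻¹) with hh
    have hhB : conjS h B' ≤ (S : Subgroup G) :=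
      (conjS_mul c (k * g⁻¹) B').le.trans (hcle.trans inf_le_left)
    have h1 : k * x * k⁻¹ ∈ L := ih B k hBlt inf_le_left hkB x (hDB.le hx) hxL
    have h2 : c * (k * x * k⁻¹) * c⁻¹ ∈ L :=
      good_step S T hT hTne hbelow hnn D₀ hkD hlt₀ hkfn
        (fun B f hlt hB hfB => ih B f (by rwa [hD₀, card_conjS] at hlt) hB hfB) c hc _
        (conj_mem_conjS hx) h1
    have hmem : h * (g * x * g⁻¹) * h⁻¹ ∈ conjS h B' :=
      conj_mem_conjS ((le_inf hgD le_normalizer : D' ≤ B') (conj_mem_conjS hx))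
    have e : h * (g * x * g⁻¹) * h⁻¹ = c * (k * x * k⁻¹) * c⁻¹ := by rw [hh]; group
    have h3 := ih (conjS h B') h⁻¹ (by rw [card_conjS]; exact hB'lt) hhB
      (by rw [conjS_inv_conjS]; exact inf_le_left) _ hmem (e ▸ h2)
    simpa [mul_assoc] using h3
  refine ⟨inf_le_left, fun x hx g hg => ⟨hg, ?_⟩⟩
  refine key _ (zpowers x) g rfl (zpowers_le.2 hx.1) ?_ x (mem_zpowers x) hx.2
  intro y hy
  rw [mem_conjS] at hy
  obtain ⟨i, hi⟩ := mem_zpowers_iff.1 hy
  have e : y = (g * x * g⁻¹) ^ i := by rw [conj_zpow, hi]; group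
  rw [e]
  exact (S : Subgroup G).zpow_mem hg i

end Cfsg.Agent.Lib.CentResidual33
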