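import Cfsg.Agent.Lib.CentResidual33.Fusion
import Cfsg.Agent.Lib.CentResidual33.Fix
import Cfsg.Agent.Lib.ProductFusion.Main
import Cfsg.Agent.Lib.Goldschmidt53.Assembly
import Cfsg.Agent.Lib.Goldschmidt53.Local

/-!
# The perfect core of the centraliser of a strongly closed 2-subgroup is normal

`normal_of_sections`, from the sections of Goldschmidt's theorem.

Owner: helper33 (`notes/s1173_foote_screen_helper33.md`).
-/

set_option autoImplicit false
set_option linter.style.haveILetI false

open Subgroup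
open scoped commutatorElement

namespace Cfsg.Agent.Lib.CentResidual33

universe u

variable {G : Type u} [Group G] [Finite G]

/-- A normal perfect subgroup meeting `T` centrally, containing the residual, equals it. -/
theorem absorb (hO : pPrimeCore 2 G = ⊥) (S : Sylow 2 G) (T : Subgroup G)
    (hT : Cfsg.IsStronglyClosed T (S : Subgroup G)) (X : Subgroup G) [X.Normal]
    (hX : ⁅X, X⁆ = X) (hLX : pres (centralizer (T : Set G)) ≤ X)
    (hcen : T ⊓ X ≤ centralizer (X : Set G)) : X = pres (centralizer (T : Set G)) := by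
  haveI : Fact (Nat.Prime 2) := ⟨Nat.prime_two⟩
  refine le_antisymm ?_ hLX
  have hcore : Balance.coreIn 2 X ≤ ⊥ := by
    refine (Balance.coreIn_le_coreIn (p := 2) (K := ⊤) le_top ?_).trans ?_
    · rw [normalizer_eq_top]
    · rw [Balance.coreIn_top, hO]
  have hR : ¬ 2 ∣ ((S : Subgroup G) ⊓ X).relIndex X :=
    relIndex_inf_normal (p := 2) (P := (S : Subgroup G)) (N := ⊤) (X := X) le_top le_top
      (by rw [normalizer_eq_top]) (by rw [relIndex_top_right]; exact S.not_dvd_index)
  obtain ⟨hfix, -⟩ := step S T X T hT hX le_rfl (by rw [normalizer_eq_top]; exact le_top) hR hcen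
  refine le_pres hX fun x hx => ?_
  obtain ⟨o, ho, hox⟩ := hfix x hx
  rwa [mem_bot.1 (hcore ho), one_mul] at hox

/-- The conclusion from a proper normal subgroup containing the residual. -/
theorem normal_of_proper (hbelow : Below33.{u} (Nat.card G)) (hO : pPrimeCore 2 G = ⊥)
    (S : Sylow 2 G) (T : Subgroup G) (hT : Cfsg.IsStronglyClosed T (S : Subgroup G))
    (W : Subgroup G) [W.Normal] (hW : W ≠ ⊤) (hLW : pres (centralizer (T : Set G)) ≤ W) :
    (pres (centralizer (T : Set G))).Normal := by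
  haveI : Fact (Nat.Prime 2) := ⟨Nat.prime_two⟩
  set L := pres (centralizer (T : Set G))
  set SW : Sylow 2 ↥W := (S.2.comap_subtype (K := W)).toSylow
    (by
      change ¬ 2 ∣ (S : Subgroup G).relIndex W
      rw [← inf_relIndex_right]
      exact relIndex_inf_normal (p := 2) (P := (S : Subgroup G)) (N := ⊤) (X := W) le_top le_top
        (by rw [normalizer_eq_top]) (by rw [relIndex_top_right]; exact S.not_dvd_index)) with hSW
  set T' := T.subgroupOf W with hT'
  have hTW : Cfsg.IsStronglyClosed T' (SW : Subgroup ↥W) :=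
    ⟨fun t ht => hT.1 ht, fun t ht w hw => hT.2 _ ht _ hw⟩
  have hcard : Nat.card ↥W < Nat.card G :=
    lt_of_le_of_ne (Nat.card_le_card_of_injective _ W.subtype_injective)
      fun e => hW (eq_top_of_card_eq _ e)
  haveI hn : (pres (centralizer (T' : Set ↥W))).Normal :=
    hbelow _ hcard (pPrimeCore_normal_eq_bot hO W) SW T' hTW
  set C := W ⊓ centralizer ((T ⊓ W : Subgroup G) : Set G) with hC
  have hmap : (pres (centralizer (T' : Set ↥W))).map W.subtype = pres C := by
    rw [map_pres]
    congr 1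
    ext z
    constructor
    · rintro ⟨y, hy, rfl⟩
      exact ⟨y.2, mem_centralizer_iff.2 fun a ha =>
        congrArg Subtype.val (mem_centralizer_iff.1 hy ⟨a, ha.2⟩ ha.1)⟩
    · intro hz
      exact ⟨⟨z, hz.1⟩, mem_centralizer_iff.2 fun a ha =>
        Subtype.ext (mem_centralizer_iff.1 hz.2 _ ⟨ha, a.2⟩), rfl⟩
  -- normal in `G` by the Frattini argument
  haveI hCn : (pres C).Normal := by
    rw [← Subgroup.normalizer_eq_top_iff, eq_top_iff, ← Sylow.normalizer_sup_eq_top SW]
    refine sup_le ?_ ?_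
    · intro g hg
      refine normalizer_le_normalizer_pres C ?_
      have hgT : ∀ g ∈ normalizer (((SW : Subgroup ↥W).map W.subtype : Subgroup G) : Set G),
          ∀ t ∈ T ⊓ W, g * t * g⁻¹ ∈ T ⊓ W := by
        intro g hg t ht
        have h1 : g * t * g⁻¹ ∈ (SW : Subgroup ↥W).map W.subtype :=
          (mem_normalizer_iff.1 hg t).1 ⟨⟨t, ht.2⟩, hT.1 ht.1, rfl⟩
        obtain ⟨w, hw, hwe⟩ := h1
        refine ⟨hT.2 t ht.1 g ?_, ?_⟩
        · rw [← hwe]; exact hw
        · rw [← hwe]; exact w.2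
      have hgTW : g ∈ normalizer ((T ⊓ W : Subgroup G) : Set G) := by
        rw [mem_normalizer_iff]
        refine fun t => ⟨hgT g hg t, fun ht => ?_⟩
        have := hgT g⁻¹ (inv_mem hg) _ ht
        simpa [mul_assoc] using this
      have hW' : g ∈ normalizer (W : Set G) := by rw [normalizer_eq_top]; exact mem_top g
      have hC' := Balance.normalizer_le_normalizer_centralizer (T ⊓ W : Subgroup G) hgTW
      rw [mem_normalizer_iff] at hW' hC' ⊢
      exact fun x => ⟨fun hx => ⟨(hW' x).1 hx.1, (hC' x).1 hx.2⟩,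
        fun hx => ⟨(hW' x).2 hx.1, (hC' x).2 hx.2⟩⟩
    · rw [← hmap]
      intro w hw
      rw [mem_normalizer_iff_map_conj_eq]
      show ((pres (centralizer (T' : Set ↥W))).map W.subtype).map (MulAut.conj w).toMonoidHom = _
      rw [map_map, show (MulAut.conj w).toMonoidHom.comp W.subtype =
        W.subtype.comp (MulAut.conj (⟨w, hw⟩ : ↥W)).toMonoidHom from rfl, ← map_map]
      congr 1
      exact Subgroup.Normal.map_conj_eq (H := pres (centralizer (T' : Set ↥W))) (⟨w, hw⟩ : ↥W)
  have hLC : L ≤ pres C := le_pres (pres_perfect _)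
    (le_inf hLW ((pres_le _).trans (centralizer_le (SetLike.coe_subset_coe.2 inf_le_left))))
  have h := absorb hO S T hT (pres C) (pres_perfect _) hLC
    (fun t ht => mem_centralizer_iff.2 fun x hx =>
      (mem_centralizer_iff.1 (pres_le C hx).2 t ⟨ht.1, (pres_le C ht.2).1⟩).symm)
  have h' : pres C = L := h
  rw [← h']
  exact hCn

/-- The conclusion when a normal subgroup of `G` lies in `T`. -/
theorem normal_of_normal (hbelow : Below33.{u} (Nat.card G)) (hO : pPrimeCore 2 G = ⊥)
    (S : Sylow 2 G) (T : Subgroup G) (hT : Cfsg.IsStronglyClosed T (S : Subgroup G))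
    (V : Subgroup G) [V.Normal] (hVT : V ≤ T) (hV : V ≠ ⊥) :
    (pres (centralizer (T : Set G))).Normal := by
  haveI : Fact (Nat.Prime 2) := ⟨Nat.prime_two⟩
  set L := pres (centralizer (T : Set G))
  have hV2 : IsPGroup 2 ↥V := S.2.to_le (hVT.trans hT.1)
  set Z := (center ↥V).map V.subtype with hZ
  haveI : Z.Normal := Cores.normal_map_subtype V (center ↥V)
  have hZT : Z ≤ T := (map_subtype_le _).trans hVT
  have hZne : Z ≠ ⊥ := by
    intro e
    rw [hZ, map_eq_bot_iff_of_injective _ V.subtype_injective] at e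
    haveI := (Subgroup.nontrivial_iff_ne_bot V).2 hV
    haveI := IsPGroup.center_nontrivial hV2
    exact (Subgroup.nontrivial_iff_ne_bot (center ↥V)).1 inferInstance e
  by_cases hc : centralizer (Z : Set G) = ⊤
  swap
  · exact normal_of_proper hbelow hO S T hT _ hc
      ((pres_le _).trans (centralizer_le (SetLike.coe_subset_coe.2 hZT)))
  have hZc : Z ≤ center G := centralizer_eq_top_iff_subset.1 hc
  set f := QuotientGroup.mk' Z with hf
  have hfs : Function.Surjective f := QuotientGroup.mk'_surjective Z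
  have hker : f.ker = Z := QuotientGroup.ker_mk' Z
  -- the quotient is core-free
  have hOq : pPrimeCore 2 (G ⧸ Z) = ⊥ := by
    haveI : (pPrimeCore 2 (G ⧸ Z)).Normal := inferInstance
    set N := (pPrimeCore 2 (G ⧸ Z)).comap f with hN
    have hmap : N.map f = pPrimeCore 2 (G ⧸ Z) := map_comap_eq_self_of_surjective hfs _
    have hle : N ≤ Z := le_of_central_odd hO (fun z hz => by
        rw [hN, mem_comap, show f z = 1 from (QuotientGroup.eq_one_iff z).2 hz]; exact one_mem _)
      hZc (by
        rw [← hker, relIndex_ker, hmap]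
        exact Nat.coprime_two_right.1 (Cores.pPrimeCore_coprime 2))
    rw [← hmap, Subgroup.map_eq_bot_iff, hker]
    exact hle
  have hcard : Nat.card (G ⧸ Z) < Nat.card G := by
    rw [Subgroup.card_eq_card_quotient_mul_card_subgroup Z]
    exact lt_mul_of_one_lt_right Nat.card_pos (Subgroup.one_lt_card_iff_ne_bot _ |>.2 hZne)
  haveI hn : (pres (centralizer (T.map f : Set (G ⧸ Z)))).Normal :=
    hbelow _ hcard hOq (S.mapSurjective hfs) (T.map f) (Cfsg.Agent.S1250.result S T hT Z)
  set C := (centralizer (T.map f : Set (G ⧸ Z))).comap f with hC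
  set P := pres C with hP
  have hPmap : P.map f = pres (centralizer (T.map f : Set (G ⧸ Z))) := by
    rw [hP, map_pres, hC, map_comap_eq_self_of_surjective hfs]
  have h1 : ⁅P, T⁆ ≤ Z := by
    rw [commutator_le]
    intro p hp t ht
    rw [← hker, MonoidHom.mem_ker, map_commutatorElement, commutatorElement_eq_one_iff_mul_comm]
    exact (mem_centralizer_iff.1 (show f p ∈ centralizer (T.map f : Set (G ⧸ Z)) from
      pres_le C hp) _ (mem_map_of_mem f ht)).symm
  have hZall : ∀ K : Subgroup G, K ≤ Z → ⁅K, P⁆ = ⊥ := fun K hK => by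
    rw [commutator_eq_bot_iff_le_centralizer]
    intro k hk
    exact mem_centralizer_iff.2 fun p _ => mem_center_iff.1 (hZc (hK hk)) p
  have hPT : P ≤ centralizer (T : Set G) := by
    have h2 : ⁅⁅P, T⁆, P⁆ = ⊥ := hZall _ h1
    have h3 : ⁅⁅T, P⁆, P⁆ = ⊥ := by rw [commutator_comm T P]; exact h2
    have h4 : ⁅⁅P, P⁆, T⁆ = ⊥ := commutator_commutator_eq_bot_of_rotate h2 h3
    rw [pres_perfect] at h4
    exact commutator_eq_bot_iff_le_centralizer.1 h4
  have hLP : P = L := le_antisymm (le_pres (pres_perfect _) hPT)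
    (pres_mono fun x hx => mem_centralizer_iff.2 (by
      rintro _ ⟨t, ht, rfl⟩
      rw [← map_mul, ← map_mul, mem_centralizer_iff.1 hx t ht]))
  haveI hLZ : (L ⊔ Z).Normal := by
    have h5 : (L.map f).Normal := by rw [← hLP, hPmap]; exact hn
    have := h5.comap f
    rwa [comap_map_eq, hker] at this
  have hpres : pres (L ⊔ Z) = L := le_antisymm
    (pres_mono (sup_le (pres_le _) (hZc.trans (center_le_centralizer _))))
    (le_pres (pres_perfect _) le_sup_left)
  rw [← Subgroup.normalizer_eq_top_iff, eq_top_iff, ← hpres]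
  exact le_trans (by rw [normalizer_eq_top]) (normalizer_le_normalizer_pres (L ⊔ Z))

/-- The case of an elementary abelian `T`, minimal and not normal, inside the residual: absurd. -/
theorem not_le_residual (H : Goldschmidt53.Sections.{u}) (hO : pPrimeCore 2 G = ⊥) (S : Sylow 2 G)
    (T : Subgroup G) (hT : Cfsg.IsStronglyClosed T (S : Subgroup G)) (hTne : T ≠ ⊥)
    (hel : Cfsg.IsElementaryAbelian 2 T) (hO2 : T ⊓ Cfsg.pCore 2 G = ⊥) :
    ¬ T ≤ pres (centralizer (T : Set G)) := by
  haveI : Fact (Nat.Prime 2) := ⟨Nat.prime_two⟩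
  intro hTL
  set L := pres (centralizer (T : Set G))
  have hdec := Goldschmidt53.local_ Goldschmidt53.facts G (Nat.card G + 1) hO (Nat.lt_succ_self _)
    (Goldschmidt53.simple_of_sections H _) S T hel hT
  have hset : Goldschmidt53.LocalSetting S T (Nat.card G + 1) :=
    ⟨hO, Nat.lt_succ_self _, Goldschmidt53.simple_of_sections H _, hel, hT⟩
  have hcentral : ∀ K : Subgroup G, Cfsg.IsComponent K → ∀ t ∈ T ⊓ K,
      (∀ k ∈ K, k * t = t * k) → t = 1 := by
    intro K hK t ht hc
    have h1 : (t : G) ∈ Cfsg.pCore 2 G := hset.center_mem hK (z := ⟨t, ht.2⟩)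
      (mem_center_iff.2 fun k => Subtype.ext (hc k k.2))
    rw [← mem_bot, ← hO2]
    exact ⟨ht.1, h1⟩
  -- some component is not centralised
  obtain ⟨K, hK, hKT⟩ : ∃ K : Subgroup G, Cfsg.IsComponent K ∧
      ¬ T ≤ centralizer (K : Set G) := by
    by_contra hno
    push Not at hno
    refine hTne (le_bot_iff.1 (hdec.split.trans (sup_le hO2.le (iSup_le fun K t ht => ?_))))
    exact mem_bot.2 (hcentral K.1 K.2 t ht fun k hk =>
      mem_centralizer_iff.1 (hno K.1 K.2 ht.1) k hk)
  rcases hdec.cases K hK with hc | ⟨hknown, P, hP⟩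
  · exact hKT hc
  haveI : IsSimpleGroup (↥K ⧸ center ↥K) := hK.2.2
  have hOm := (Goldschmidt53.facts _ hknown).four_le P
  -- `L` normalises `K`
  have hLK : L ≤ normalizer (K : Set G) := by
    intro g hg
    rw [mem_normalizer_iff_map_conj_eq]
    show K.map (MulAut.conj g).toMonoidHom = K
    by_contra hne
    have hcomm := Components.Component.le_centralizer_of_ne hK
      (Components.Component.conj hK g) (Ne.symm hne)
    have hbot : T.subgroupOf K = ⊥ := by
      rw [eq_bot_iff]
      intro t ht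
      have ht' : (t : G) ∈ K.map (MulAut.conj g).toMonoidHom := ⟨t, t.2, by
        show g * (t : G) * g⁻¹ = t
        rw [← mem_centralizer_iff.1 (pres_le _ hg) t ht, mul_inv_cancel_right]⟩
      exact mem_bot.2 (Subtype.ext (hcentral K hK t ⟨ht, t.2⟩ fun k hk =>
        (mem_centralizer_iff.1 (hcomm hk) _ ht').symm))
    rw [hbot, Subgroup.map_bot] at hP
    rw [← hP, card_bot] at hOm
    omega
  let ψ : ↥L →* MulAut (↥K ⧸ center ↥K) :=
    (autQuot ↥K).comp ((normalizerMonoidHom K).comp (inclusion hLK))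
  have hperf : ⁅ψ.range, ψ.range⁆ = ψ.range := by
    have ht : ⁅(⊤ : Subgroup ↥L), (⊤ : Subgroup ↥L)⁆ = (⊤ : Subgroup ↥L) := by
      apply map_injective L.subtype_injective
      rw [map_commutator, ← MonoidHom.range_eq_map, range_subtype, pres_perfect]
    rw [MonoidHom.range_eq_map, ← map_commutator, ht]
  have hfix : ∀ φ ∈ ψ.range, ∀ x ∈ Goldschmidt53.Om P, φ x = x := by
    rintro _ ⟨l, rfl⟩ x hx
    rw [← hP] at hx
    obtain ⟨t, ht, rfl⟩ := hx
    show autQuot ↥K (normalizerMonoidHom K (inclusion hLK l)) (QuotientGroup.mk' _ t) = _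
    rw [autQuot_mk]
    congr 1
    refine Subtype.ext ?_
    show (l : G) * (t : G) * (l : G)⁻¹ = t
    rw [← mem_centralizer_iff.1 (pres_le _ l.2) t ht, mul_inv_cancel_right]
  have htriv := perfect_fix_eq_bot hknown P ψ.range hperf hfix
  -- so `L` centralises `K`
  have hmod : ∀ l ∈ L, ∀ k ∈ K, ⁅l, k⁆ ∈ (center ↥K).map K.subtype := by
    intro l hl k hk
    have h1 : ψ ⟨l, hl⟩ = 1 := mem_bot.1 (htriv ▸ (⟨⟨l, hl⟩, rfl⟩ : ψ ⟨l, hl⟩ ∈ ψ.range))
    have h2 : autQuot ↥K (normalizerMonoidHom K ⟨l, hLK hl⟩) (QuotientGroup.mk' _ ⟨k, hk⟩) =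
        QuotientGroup.mk' _ ⟨k, hk⟩ := MulEquiv.congr_fun h1 _
    rw [autQuot_mk] at h2
    have h3 := (QuotientGroup.eq (s := center ↥K)).1 h2.symm
    set k' := normalizerMonoidHom K ⟨l, hLK hl⟩ ⟨k, hk⟩ with hk'
    refine ⟨k' * (⟨k, hk⟩ : ↥K)⁻¹, ?_, ?_⟩
    · simpa [mul_assoc] using (inferInstance : (center ↥K).Normal).conj_mem _ h3 (⟨k, hk⟩ : ↥K)
    · show l * k * l⁻¹ * k⁻¹ = ⁅l, k⁆
      rw [commutatorElement_def]
  have hLKc : L ≤ centralizer (K : Set G) := by
    have h1 : ⁅L, K⁆ ≤ (center ↥K).map K.subtype := commutator_le.2 hmod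
    have h2 : ⁅⁅L, K⁆, K⁆ = ⊥ := commutator_eq_bot_iff_le_centralizer.2 fun c hc => by
      obtain ⟨z, hz, rfl⟩ := h1 hc
      exact mem_centralizer_iff.2 fun k hk =>
        congrArg Subtype.val (mem_center_iff.1 hz ⟨k, hk⟩)
    exact commutator_eq_bot_iff_le_centralizer.1
      (Components.commutator_eq_bot_of_perfect (Components.Component.commutator_self hK) h2)
  exact hKT (hTL.trans hLKc)

/-- **The theorem**, from the sections of Goldschmidt's theorem. -/
theorem normal_of_sections (H : Goldschmidt53.Sections.{u}) : ∀ m, Below33.{u} m := by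
  intro m
  induction m using Nat.strong_induction_on with
  | _ m ihm =>
  intro G _ _ hm hO S T hT
  haveI : Fact (Nat.Prime 2) := ⟨Nat.prime_two⟩
  have hbelow : Below33.{u} (Nat.card G) := ihm _ hm
  induction hc : Nat.card T using Nat.strong_induction_on generalizing T with
  | _ c ihT =>
  subst hc
  set L := pres (centralizer (T : Set G)) with hL
  rcases eq_or_ne T ⊥ with hT1 | hTne
  · have htop : centralizer (T : Set G) = ⊤ :=
      centralizer_eq_top_iff_subset.2 (by rw [hT1]; exact bot_le (α := Subgroup G))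
    rw [hL, htop, ← Subgroup.normalizer_eq_top_iff, eq_top_iff]
    exact le_trans (by rw [normalizer_eq_top]) (normalizer_le_normalizer_pres ⊤)
  by_cases hnn : ∀ V : Subgroup G, V ≤ T → V ≠ ⊥ → normalizer (V : Set G) ≠ ⊤
  swap
  · push Not at hnn
    obtain ⟨V, hVT, hV, hVn⟩ := hnn
    haveI : V.Normal := Subgroup.normalizer_eq_top_iff.1 hVn
    exact normal_of_normal hbelow hO S T hT V hVT hV
  -- a smaller strongly closed subgroup finishes
  have hsmall : ∀ T₀ : Subgroup G, T₀ ≤ T → T₀ ≠ T → T₀ ≠ ⊥ →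
      Cfsg.IsStronglyClosed T₀ (S : Subgroup G) → L.Normal := by
    intro T₀ h0 hne hb hsc
    haveI hX := ihT _ (lt_of_le_of_ne (card_le_of_le h0)
      fun e => hne (eq_of_le_of_card_ge h0 e.ge)) T₀ hsc rfl
    refine normal_of_proper hbelow hO S T hT (pres (centralizer (T₀ : Set G))) ?_
      (pres_mono (centralizer_le (SetLike.coe_subset_coe.2 h0)))
    intro e
    have : centralizer (T₀ : Set G) = ⊤ := top_le_iff.1 (e ▸ pres_le _)
    refine hnn T₀ h0 hb (top_le_iff.1 ?_)
    rw [← this]
    exact Subgroup.centralizer_le_normalizer _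
  have hR := residual_closed S T hT hTne hbelow hnn
  set R := (S : Subgroup G) ⊓ L with hRdef
  have hLodd : ¬ 2 ∣ R.relIndex L := by
    have hSN : (S : Subgroup G) ≤ normalizer (T : Set G) := by
      intro s hs
      rw [mem_normalizer_iff]
      intro t
      have key : ∀ s ∈ (S : Subgroup G), ∀ t ∈ T, s * t * s⁻¹ ∈ T := fun s hs t ht =>
        hT.2 t ht s (mul_mem (mul_mem hs (hT.1 ht)) (inv_mem hs))
      refine ⟨key s hs t, fun ht => ?_⟩
      have := key s⁻¹ (inv_mem hs) _ ht
      simpa [mul_assoc] using this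
    exact relIndex_inf_normal (p := 2) (P := (S : Subgroup G)) (N := normalizer (T : Set G)) (X := L)
      hSN ((pres_le _).trans (Subgroup.centralizer_le_normalizer _))
      ((Balance.normalizer_le_normalizer_centralizer T).trans (normalizer_le_normalizer_pres _))
      (fun h => S.not_dvd_index (h.trans (relIndex_dvd_index_of_le hSN)))
  have hTR : T ⊓ R = T ⊓ L := by
    rw [hRdef, ← inf_assoc, inf_eq_left.2 hT.1]
  rcases eq_or_ne (T ⊓ L) ⊥ with hdisj | hne
  · -- product fusion
    have hset : ProductFusion.Setup S T R := ⟨hT, hR,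
      fun a ha b hb => mem_centralizer_iff.1 (pres_le _ hb.2) a ha, hTR.trans hdisj⟩
    have hncl := ProductFusion.commutator_normalClosure_eq_bot hO hset
    set N₁ := normalClosure (T : Set G) with hN₁
    haveI : N₁.Normal := normalClosure_normal
    have hRc : R ≤ centralizer (N₁ : Set G) := fun r hr =>
      commutator_eq_bot_iff_le_centralizer.1 (by rw [commutator_comm]; exact hncl)
        (subset_normalClosure hr)
    set f := QuotientGroup.mk' (centralizer (N₁ : Set G)) with hf
    have hodd : Odd (Nat.card ↥(L.map f)) := by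
      rw [← relIndex_ker, hf, QuotientGroup.ker_mk', Nat.odd_iff]
      by_contra h2
      exact hLodd (dvd_trans (Nat.dvd_of_mod_eq_zero (by omega)) (relIndex_dvd_of_le_left L hRc))
    have hbot := eq_bot_of_perfect_odd (by rw [← map_commutator, pres_perfect]) hodd
    rw [Subgroup.map_eq_bot_iff, QuotientGroup.ker_mk'] at hbot
    have hTN : T ≤ N₁ := fun t ht => subset_normalClosure ht
    have heq : L = pres (centralizer (N₁ : Set G)) :=
      le_antisymm (le_pres (pres_perfect _) hbot)
        (pres_mono (centralizer_le (SetLike.coe_subset_coe.2 hTN)))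
    rw [heq, ← Subgroup.normalizer_eq_top_iff, eq_top_iff]
    exact le_trans (by rw [normalizer_eq_top]) (normalizer_le_normalizer_pres _)
  by_cases hTL : T ⊓ L = T
  swap
  · refine hsmall (T ⊓ L) inf_le_left hTL hne ?_
    rw [← hTR]
    exact ⟨inf_le_left.trans hT.1, fun x hx g hg => ⟨hT.2 x hx.1 g hg, hR.2 x hx.2 g hg⟩⟩
  have hle : T ≤ L := inf_eq_left.1 hTL
  -- `T` is abelian
  have hcomm : ∀ a ∈ T, ∀ b ∈ T, a * b = b * a := fun a ha b hb =>
    mem_centralizer_iff.1 (pres_le _ (hle hb)) a ha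
  have hTc : IsMulCommutative ↥T := ⟨⟨fun a b => Subtype.ext (hcomm a a.2 b b.2)⟩⟩
  set E := Cfsg.omegaOne 2 T with hE
  have hEne : E ≠ ⊥ := PGroups.omegaOne_ne_bot (S.2.to_le hT.1) hTne
  have hEc : Cfsg.IsStronglyClosed E (S : Subgroup G) := by
    refine ⟨(PGroups.omegaOne_le 2 T).trans hT.1, fun x hx g hg => ?_⟩
    obtain ⟨hxT, hx2⟩ := (PGroups.mem_omegaOne_iff_of_comm hTc).1 hx
    exact PGroups.mem_omegaOne_of_pow (hT.2 x hxT g hg)
      (by rw [conj_pow, hx2, mul_one, mul_inv_cancel])
  by_cases hET : E = T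
  swap
  · exact hsmall E (PGroups.omegaOne_le 2 T) hET hEne hEc
  have hel : Cfsg.IsElementaryAbelian 2 T := hET ▸ PGroups.elemAb_omegaOne hTc
  refine absurd hle (not_le_residual H hO S T hT hTne hel ?_)
  by_contra hb
  refine hnn _ inf_le_left hb (Subgroup.normalizer_eq_top_iff.2 ⟨fun x hx g => ?_⟩)
  haveI := Goldschmidt53.pCore_normal G
  have hg : g * x * g⁻¹ ∈ Cfsg.pCore 2 G := Subgroup.Normal.conj_mem inferInstance x hx.2 g
  exact ⟨hT.2 x hx.1 g (Cores.pCore_le_sylow S hg), hg⟩

end Cfsg.Agent.Lib.CentResidual33
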