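import Cfsg.Agent.Lib.CentResidual33.Sylow
import Cfsg.Agent.Lib.ProductFusion.Core
import Cfsg.Agent.Lib.ZStar.StronglyClosed
import Cfsg.Agent.Lib.Fusion.Alperin
import Cfsg.Agent.Lib.Balance.Permute
import Cfsg.Agent.S1250
import Cfsg.Prelude.Def_TwoFusion
import Cfsg.Prelude.Def_CaseTheorems

/-!
# The step lemma

A perfect subgroup `X` normalised by `U₁ ≤ T`, with `T ⊓ X` central in `X`, is centralised by `U₁`
modulo its odd core (Glauberman's Z*-theorem in the form of `ZStar.StronglyClosed`).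

Owner: helper33.
-/

set_option autoImplicit false
set_option linter.style.haveILetI false

open Subgroup
open scoped commutatorElement

namespace Cfsg.Agent.Lib.CentResidual33

universe u

variable {G : Type u} [Group G] [Finite G]

theorem pPrimeCore_normal_eq_bot {K : Type*} [Group K] [Finite K] (hO : pPrimeCore 2 K = ⊥)
    (M : Subgroup K) [M.Normal] : pPrimeCore 2 ↥M = ⊥ := by
  haveI : Fact (Nat.Prime 2) := ⟨Nat.prime_two⟩
  refine (map_eq_bot_iff_of_injective _ M.subtype_injective).1 (le_bot_iff.1 ?_)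
  show Balance.coreIn 2 M ≤ ⊥
  refine (Balance.coreIn_le_coreIn (p := 2) (K := ⊤) le_top ?_).trans ?_
  · rw [normalizer_eq_top]
  · rw [Balance.coreIn_top, hO]

/-- In a core-free group a normal subgroup with an odd index central subgroup is that subgroup. -/
theorem le_of_central_odd {K : Type u} [Group K] [Finite K] (hO : pPrimeCore 2 K = ⊥)
    {Z N : Subgroup K} [N.Normal] (hZN : Z ≤ N) (hZc : Z ≤ center K)
    (hodd : Odd (Z.relIndex N)) : N ≤ Z := by
  -- `Z` has no non-trivial element of odd order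
  haveI hZn : Z.Normal := ⟨fun x hx g => by
    rw [mem_center_iff.1 (hZc hx) g, mul_inv_cancel_right]; exact hx⟩
  have hcomm : ∀ x ∈ Z, ∀ y ∈ Z, x * y = y * x := fun x _ y hy => mem_center_iff.1 (hZc hy) x
  have h2 : IsPGroup 2 Z := by
    rw [IsPGroup.iff_card]
    by_contra hne
    obtain ⟨q, hq, hqd, hq2⟩ : ∃ q, q.Prime ∧ q ∣ Nat.card Z ∧ q ≠ 2 := by
      by_contra hall
      push Not at hall
      exact hne ⟨_, Nat.eq_prime_pow_of_unique_prime_dvd Nat.card_pos.ne'
        fun {d} hd hdd => hall d hd hdd⟩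
    haveI : Fact q.Prime := ⟨hq⟩
    obtain ⟨c, hc⟩ := exists_prime_orderOf_dvd_card' q hqd
    have h1 := ProductFusion.Core.eq_one_of_mem_abelian hO hZn hcomm c.2
      (by rw [Subgroup.orderOf_coe, hc]; exact hq.odd_of_ne_two hq2)
    rw [show c = 1 from Subtype.ext h1, orderOf_one] at hc
    exact hq.one_lt.ne hc
  haveI : (Z.subgroupOf N).Normal := inferInstance
  have hcop : Nat.Coprime (Nat.card (Z.subgroupOf N)) (Z.subgroupOf N).index := by
    rw [Nat.card_congr (subgroupOfEquivOfLe hZN).toEquiv]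
    obtain ⟨j, hj⟩ := IsPGroup.iff_card.1 h2
    rw [hj]
    exact Nat.Coprime.pow_left _ (Nat.coprime_two_left.2 hodd)
  obtain ⟨C, hC⟩ := exists_right_complement'_of_coprime hcop
  -- the complement is characterised by its order, so normal in `K`
  have hCn : C.Normal := by
    refine ⟨fun x hx g => ?_⟩
    obtain ⟨⟨⟨z, hz⟩, ⟨c, hc⟩⟩, he⟩ := (hC.existsUnique g).exists
    simp only at he
    have hzc : ∀ w : ↥N, (z : ↥N) * w = w * z := fun w =>
      Subtype.ext (mem_center_iff.1 (hZc hz) (w : K)).symm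
    have e : g * x * g⁻¹ = c * x * c⁻¹ := by
      rw [← he, mul_inv_rev, show z * c * x * (c⁻¹ * z⁻¹) = z * (c * x * c⁻¹) * z⁻¹ by group,
        hzc (c * x * c⁻¹), mul_inv_cancel_right]
    rw [e]
    exact C.mul_mem (C.mul_mem hc hx) (C.inv_mem hc)
  have hCodd : Odd (Nat.card C) := by
    rw [← hC.symm.index_eq_card]
    exact hodd
  have hCcore : C ≤ pPrimeCore 2 ↥N := Cores.le_pPrimeCore (Nat.coprime_two_right.2 hCodd)
  rw [pPrimeCore_normal_eq_bot hO N, le_bot_iff] at hCcore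
  rw [hCcore, isComplement'_bot_right] at hC
  exact subgroupOf_eq_top.1 hC

/-- A strongly closed subgroup centralises a perfect core-free normal subgroup which it meets
centrally. -/
theorem le_centralizer_of_central (S : Sylow 2 G) (A : Subgroup G)
    (hA : Cfsg.IsStronglyClosed A (S : Subgroup G)) (X : Subgroup G) [X.Normal]
    (hX : ⁅X, X⁆ = X) (hO : pPrimeCore 2 ↥X = ⊥) (hd : A ⊓ X ≤ centralizer (X : Set G)) :
    A ≤ centralizer (X : Set G) := by
  haveI : Fact (Nat.Prime 2) := ⟨Nat.prime_two⟩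
  set M := X ⊓ centralizer (X : Set G) with hM
  haveI : M.Normal := inferInstance
  set q := QuotientGroup.mk' M with hq
  have hqs : Function.Surjective q := QuotientGroup.mk'_surjective M
  have hker : q.ker = M := QuotientGroup.ker_mk' M
  set H := X.map q with hH
  haveI : H.Normal := Subgroup.Normal.map inferInstance q hqs
  have hcore : pPrimeCore 2 ↥H = ⊥ := by
    let g : ↥X →* ↥H := q.subgroupMap X
    have hg : Function.Surjective g := q.subgroupMap_surjective X
    set N := (pPrimeCore 2 ↥H).comap g with hN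
    haveI : (pPrimeCore 2 ↥H).Normal := inferInstance
    have hmap : N.map g = pPrimeCore 2 ↥H := map_comap_eq_self_of_surjective hg _
    have hZc : g.ker ≤ center ↥X := fun x hx => by
      have h1 : (x : G) ∈ M := by
        rw [← hker]
        exact congrArg Subtype.val (MonoidHom.mem_ker.1 hx)
      exact mem_center_iff.2 fun y => Subtype.ext (mem_centralizer_iff.1 h1.2 y y.2)
    have hodd : Odd (g.ker.relIndex N) := by
      rw [relIndex_ker, hmap]
      exact Nat.coprime_two_right.1 (Cores.pPrimeCore_coprime 2)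
    have hle : N ≤ g.ker := le_of_central_odd hO
      (fun x hx => by rw [hN, mem_comap, MonoidHom.mem_ker.1 hx]; exact one_mem _) hZc hodd
    rw [← hmap, Subgroup.map_eq_bot_iff]
    exact hle
  have hdisj : A.map q ⊓ H = ⊥ := by
    rw [eq_bot_iff]
    rintro y ⟨hyA, hyH⟩
    obtain ⟨a, ha, rfl⟩ := mem_map.1 hyA
    have haX : a ∈ X := by
      obtain ⟨x, hx, hxa⟩ := mem_map.1 hyH
      have h1 : x⁻¹ * a ∈ M := (QuotientGroup.eq (s := M)).1 hxa
      simpa using mul_mem hx h1.1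
    rw [mem_bot]
    exact (QuotientGroup.eq_one_iff a).2 ⟨haX, hd ⟨ha, haX⟩⟩
  have hc : A.map q ≤ centralizer (H : Set (G ⧸ M)) :=
    ZStar.StronglyClosed.le_centralizer (S.mapSurjective hqs) (A.map q)
      (Cfsg.Agent.S1250.result S A hA M) H
      (by rw [normalizer_eq_top]; exact le_top) hcore hdisj
  have h1 : ⁅A, X⁆ ≤ M := by
    rw [commutator_le]
    intro a ha x hx
    rw [← hker, MonoidHom.mem_ker, map_commutatorElement, commutatorElement_eq_one_iff_mul_comm]
    exact (mem_centralizer_iff.1 (hc (mem_map_of_mem q ha)) _ (mem_map_of_mem q hx)).symm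
  have h2 : ⁅⁅A, X⁆, X⁆ = ⊥ := by
    rw [commutator_eq_bot_iff_le_centralizer]
    exact h1.trans inf_le_right
  have h3 : ⁅⁅X, A⁆, X⁆ = ⊥ := by rw [commutator_comm X A, h2]
  have h4 : ⁅⁅X, X⁆, A⁆ = ⊥ := commutator_commutator_eq_bot_of_rotate h3 h2
  rw [hX, commutator_comm] at h4
  exact commutator_eq_bot_iff_le_centralizer.1 h4

/-- The step. -/
theorem step (S : Sylow 2 G) (T X U₁ : Subgroup G)
    (hT : Cfsg.IsStronglyClosed T (S : Subgroup G)) (hX : ⁅X, X⁆ = X) (hU : U₁ ≤ T)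
    (hn : U₁ ≤ normalizer (X : Set G)) (hR : ¬ 2 ∣ ((S : Subgroup G) ⊓ X).relIndex X)
    (hcen : T ⊓ X ≤ centralizer (X : Set G)) :
    (∀ x ∈ X, ∃ o ∈ Balance.coreIn 2 X, o * x ∈ centralizer (U₁ : Set G)) ∧
      (S : Subgroup G) ⊓ X ≤ centralizer (U₁ : Set G) := by
  haveI : Fact (Nat.Prime 2) := ⟨Nat.prime_two⟩
  set O := Balance.coreIn 2 X with hO
  set Y := X ⊔ U₁ with hY
  have hXY : X ≤ Y := le_sup_left
  have hUY : U₁ ≤ Y := le_sup_right
  have hOX : O ≤ X := Balance.coreIn_le X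
  have hYX : Y ≤ normalizer (X : Set G) := sup_le le_normalizer hn
  have hYO : Y ≤ normalizer (O : Set G) := hYX.trans (Balance.normalizer_le_normalizer_coreIn X)
  haveI hXn : (X.subgroupOf Y).Normal := (normal_subgroupOf_iff_le_normalizer hXY).2 hYX
  haveI hOn : (O.subgroupOf Y).Normal :=
    (normal_subgroupOf_iff_le_normalizer (hOX.trans hXY)).2 hYO
  -- a Sylow subgroup of `Y`
  have hSY : ¬ 2 ∣ ((S : Subgroup G).subgroupOf Y).index := by
    change ¬ 2 ∣ (S : Subgroup G).relIndex Y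
    have e : Y = ((S : Subgroup G) ⊓ Y) ⊔ X := le_antisymm
      (sup_le le_sup_right (le_trans (le_inf (hU.trans hT.1) hUY) le_sup_left))
      (sup_le inf_le_right hXY)
    have hn2 : X ≤ normalizer (((S : Subgroup G) ⊓ Y : Subgroup G) : Set G) ∨ True := Or.inr trivial
    rw [← inf_relIndex_right]
    intro hd
    refine hR (hd.trans ?_)
    have e1 : ((S : Subgroup G) ⊓ X).relIndex ((S : Subgroup G) ⊓ Y) *
        ((S : Subgroup G) ⊓ Y).relIndex Y = ((S : Subgroup G) ⊓ X).relIndex Y :=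
      relIndex_mul_relIndex _ _ _ (inf_le_inf le_rfl hXY) inf_le_right
    have e2 : ((S : Subgroup G) ⊓ X).relIndex X * X.relIndex Y =
        ((S : Subgroup G) ⊓ X).relIndex Y :=
      relIndex_mul_relIndex _ _ _ inf_le_right hXY
    have e3 : X.relIndex Y = ((S : Subgroup G) ⊓ X).relIndex ((S : Subgroup G) ⊓ Y) := by
      have h5 : X.relIndex Y = X.relIndex ((S : Subgroup G) ⊓ Y) := by
        conv_lhs => rw [e]
        exact relIndex_sup_of_normalizes (inf_le_right.trans hYX)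
      rw [h5, ← inf_relIndex_right X]
      congr 1
      exact le_antisymm (le_inf (inf_le_right.trans inf_le_left) inf_le_left)
        (le_inf inf_le_right (inf_le_inf le_rfl hXY))
    rw [e3, ← e1, mul_comm] at e2
    exact ⟨1, by
      rw [mul_one]
      exact Nat.eq_of_mul_eq_mul_left (Nat.pos_of_ne_zero FiniteIndex.index_ne_zero) e2⟩
  set SY : Sylow 2 ↥Y := (S.2.comap_subtype (K := Y)).toSylow hSY with hSYdef
  set f := QuotientGroup.mk' (O.subgroupOf Y) with hf
  have hfs : Function.Surjective f := QuotientGroup.mk'_surjective _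
  set Xb := (X.subgroupOf Y).map f with hXb
  haveI : Xb.Normal := hXn.map f hfs
  have hXbp : ⁅Xb, Xb⁆ = Xb := by
    rw [hXb, ← map_commutator]
    congr 1
    apply map_injective Y.subtype_injective
    rw [map_commutator, subgroupOf_map_subtype, inf_eq_left.2 hXY, hX]
  let g : ↥X →* ↥Xb := (f.comp (inclusion hXY)).codRestrict Xb
    fun x => mem_map_of_mem f (show inclusion hXY x ∈ X.subgroupOf Y from x.2)
  have hgs : Function.Surjective g := by
    rintro ⟨q, hq⟩
    obtain ⟨y, hy, rfl⟩ := mem_map.1 hq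
    exact ⟨⟨y, hy⟩, Subtype.ext rfl⟩
  have hgker : g.ker = pPrimeCore 2 ↥X := by
    ext x
    rw [MonoidHom.mem_ker]
    have h1 : g x = 1 ↔ (x : G) ∈ O := by
      rw [Subtype.ext_iff]
      exact QuotientGroup.eq_one_iff (N := O.subgroupOf Y) (inclusion hXY x)
    rw [h1, hO, Balance.coreIn, mem_map]
    exact ⟨fun ⟨y, hy, he⟩ => (Subtype.ext he : y = x) ▸ hy, fun h => ⟨x, h, rfl⟩⟩
  have hcoreX : pPrimeCore 2 ↥Xb = ⊥ := by
    haveI : (pPrimeCore 2 ↥X).Normal := inferInstance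
    let e : ↥X ⧸ pPrimeCore 2 ↥X ≃* ↥Xb :=
      (QuotientGroup.quotientMulEquivOfEq hgker.symm).trans
        (QuotientGroup.quotientKerEquivOfSurjective g hgs)
    rw [← Cores.map_pPrimeCore_equiv e, Cores.pPrimeCore_quotient_pPrimeCore, Subgroup.map_bot]
  have hTY : Cfsg.IsStronglyClosed (T.subgroupOf Y) (SY : Subgroup ↥Y) :=
    ⟨fun t ht => hT.1 ht, fun t ht y hy => hT.2 _ ht _ hy⟩
  have hd : (T.subgroupOf Y).map f ⊓ Xb ≤ centralizer (Xb : Set (↥Y ⧸ O.subgroupOf Y)) := by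
    rintro q ⟨hqT, hqX⟩
    obtain ⟨t, ht, rfl⟩ := mem_map.1 hqT
    have htX : (t : G) ∈ X := by
      obtain ⟨x, hx, hxt⟩ := mem_map.1 hqX
      have h1 : x⁻¹ * t ∈ O.subgroupOf Y := (QuotientGroup.eq (s := O.subgroupOf Y)).1 hxt
      simpa using mul_mem (show (x : G) ∈ X from hx) (hOX (show ((x⁻¹ * t : ↥Y) : G) ∈ O from h1))
    rw [mem_centralizer_iff]
    rintro _ ⟨x, hx, rfl⟩
    rw [← map_mul, ← map_mul]
    exact congrArg f (Subtype.ext (mem_centralizer_iff.1 (hcen ⟨ht, htX⟩) _ hx))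
  have hc := le_centralizer_of_central (SY.mapSurjective hfs) ((T.subgroupOf Y).map f)
    (Cfsg.Agent.S1250.result SY _ hTY (O.subgroupOf Y)) Xb hXbp hcoreX hd
  have hcomm : ∀ x ∈ X, ∀ a ∈ U₁, a * x * a⁻¹ * x⁻¹ ∈ O := by
    intro x hx a ha
    have h1 := mem_centralizer_iff.1 (hc (mem_map_of_mem f
      (show (⟨a, hUY ha⟩ : ↥Y) ∈ T.subgroupOf Y from hU ha))) _
      (mem_map_of_mem f (show (⟨x, hXY hx⟩ : ↥Y) ∈ X.subgroupOf Y from hx))
    have h2 : f (⟨a, hUY ha⟩ * ⟨x, hXY hx⟩ * (⟨a, hUY ha⟩ : ↥Y)⁻¹ * (⟨x, hXY hx⟩ : ↥Y)⁻¹) = 1 := by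
      rw [map_mul, map_mul, map_mul, map_inv, map_inv, ← h1]
      group
    exact (QuotientGroup.eq_one_iff (N := O.subgroupOf Y) _).1 h2
  refine ⟨fun x hx => exists_fixed_of_comm (S.2.to_le (hU.trans hT.1)) (odd_coreIn X)
    (hUY.trans hYO) (hcomm x hx), ?_⟩
  rintro r ⟨hrS, hrX⟩
  rw [mem_centralizer_iff]
  intro a ha
  have h1 : a * r * a⁻¹ * r⁻¹ ∈ O ⊓ (S : Subgroup G) :=
    ⟨hcomm r hrX a ha, (S : Subgroup G).mul_mem ((S : Subgroup G).mul_mem
      ((S : Subgroup G).mul_mem (hT.1 (hU ha)) hrS) ((S : Subgroup G).inv_mem (hT.1 (hU ha))))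
      ((S : Subgroup G).inv_mem hrS)⟩
  have h2 : (O ⊓ (S : Subgroup G)) = ⊥ := by
    refine disjoint_iff.1 (disjoint_of_coprime_natCard ?_)
    obtain ⟨j, hj⟩ := IsPGroup.iff_card.1 S.2
    rw [hj]
    exact Nat.Coprime.pow_right _ (Nat.coprime_two_right.2 (odd_coreIn X))
  rw [h2, mem_bot, mul_inv_eq_one, mul_inv_eq_iff_eq_mul] at h1
  exact h1

end Cfsg.Agent.Lib.CentResidual33
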