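import Cfsg.Agent.Lib.CentResidual33.Basic
import Cfsg.Agent.Lib.Cores.Basic
import Cfsg.Agent.Lib.Coprime.Glauberman

/-!
# Index bookkeeping and coprime quotients

Owner: helper33.
-/

set_option autoImplicit false
set_option linter.style.haveILetI false

open Subgroup
open scoped commutatorElement

namespace Cfsg.Agent.Lib.CentResidual33

variable {G : Type*} [Group G]

theorem relIndex_sup_of_normalizes {K L : Subgroup G} (h : L ≤ normalizer (K : Set G)) :
    K.relIndex (L ⊔ K) = K.relIndex L := by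
  set M := L ⊔ K with hM
  haveI : (K.subgroupOf M).Normal := (normal_subgroupOf_iff_le_normalizer le_sup_right).2
    (sup_le h le_normalizer)
  have h1 := relIndex_sup_right (H := L.subgroupOf M) (K := K.subgroupOf M)
  rw [← subgroupOf_sup le_sup_left le_sup_right, relIndex_subgroupOf le_rfl,
    relIndex_subgroupOf (le_sup_left : L ≤ M)] at h1
  exact h1

/-- An index prime to `p` goes down to normalised subgroups. -/
theorem relIndex_inf_normal [Finite G] {p : ℕ} {P N X : Subgroup G} (hP : P ≤ N)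
    (hXN : X ≤ N) (hn : N ≤ normalizer (X : Set G)) (h : ¬ p ∣ P.relIndex N) :
    ¬ p ∣ (P ⊓ X).relIndex X := by
  intro hd
  refine h (hd.trans ?_)
  rw [inf_relIndex_right]
  have hle : P ⊔ X ≤ N := sup_le hP hXN
  have h2 := relIndex_mul_relIndex P (P ⊔ X) N le_sup_left hle
  have h3 : P.relIndex X = P.relIndex (P ⊔ X) := by
    have e1 : P.relIndex (P ⊔ X) * (P ⊓ X).relIndex P = (P ⊓ X).relIndex (P ⊔ X) := by
      rw [mul_comm]
      exact relIndex_mul_relIndex (P ⊓ X) P (P ⊔ X) inf_le_left le_sup_left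
    have e2 : (P ⊓ X).relIndex X * X.relIndex (P ⊔ X) = (P ⊓ X).relIndex (P ⊔ X) :=
      relIndex_mul_relIndex (P ⊓ X) X (P ⊔ X) inf_le_right le_sup_right
    have e3 : X.relIndex (P ⊔ X) = (P ⊓ X).relIndex P := by
      rw [relIndex_sup_of_normalizes (hP.trans hn), inf_comm, inf_relIndex_right]
    rw [e3, inf_relIndex_right, ← e1] at e2
    exact Nat.eq_of_mul_eq_mul_right (Nat.pos_of_ne_zero FiniteIndex.index_ne_zero) e2
  exact ⟨(P ⊔ X).relIndex N, by rw [h3]; exact h2.symm⟩

/-- A 2-subgroup containing a subgroup of odd index equals it. -/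
theorem le_of_two_group [Finite G] {A B M : Subgroup G} (hAB : A ≤ B) (hBM : B ≤ M)
    (hB : IsPGroup 2 B) (h : ¬ 2 ∣ A.relIndex M) : B ≤ A := by
  haveI : Fact (Nat.Prime 2) := ⟨Nat.prime_two⟩
  rw [← relIndex_eq_one]
  obtain ⟨k, hk⟩ := hB.index (A.subgroupOf B)
  change A.relIndex B = 2 ^ k at hk
  rcases Nat.eq_zero_or_pos k with rfl | hk0
  · simpa using hk
  · exact absurd ((dvd_pow_self 2 hk0.ne').trans
      (hk ▸ ⟨B.relIndex M, (relIndex_mul_relIndex A B M hAB hBM).symm⟩)) h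

theorem odd_coreIn [Finite G] (H : Subgroup G) : Odd (Nat.card ↥(Balance.coreIn 2 H)) := by
  rw [Balance.coreIn, ← Nat.card_congr ((pPrimeCore 2 ↥H).equivMapOfInjective H.subtype
    H.subtype_injective).toEquiv]
  exact Nat.coprime_two_right.1 (Cores.pPrimeCore_coprime 2)

theorem relIndex_sup_dvd_card [Finite G] {L O : Subgroup G} (h : O ≤ normalizer (L : Set G)) :
    L.relIndex (L ⊔ O) ∣ Nat.card O := by
  rw [sup_comm, relIndex_sup_of_normalizes h]
  exact L.relIndex_dvd_card O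

theorem not_two_dvd_of_odd {n : ℕ} (h : Odd n) : ¬ 2 ∣ n :=
  fun h2 => Nat.not_even_iff_odd.2 h (even_iff_two_dvd.2 h2)

/-- A 2-group centralising a quotient by an odd normalised subgroup: the fixed points cover it. -/
theorem exists_fixed_of_comm [Finite G] {A N : Subgroup G} (hA : IsPGroup 2 A)
    (hN : Odd (Nat.card N)) (hAN : A ≤ normalizer (N : Set G)) {k : G}
    (hk : ∀ a ∈ A, a * k * a⁻¹ * k⁻¹ ∈ N) :
    ∃ n ∈ N, n * k ∈ centralizer (A : Set G) := by
  haveI : Fact (Nat.Prime 2) := ⟨Nat.prime_two⟩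
  refine Coprime.exists_fixed_mul hAN ?_ (Or.inl (Coprime.isSolvable_of_isPGroup hA)) hk
  obtain ⟨j, hj⟩ := IsPGroup.iff_card.1 hA
  rw [hj]
  exact Nat.Coprime.pow_left _ (Nat.coprime_two_left.2 hN)

end Cfsg.Agent.Lib.CentResidual33
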